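import Mathlib
import Cfsg.Prelude.Def_Solvable

set_option autoImplicit false

namespace Cfsg.Agent.Helper71

open Subgroup

/-- In a finite nilpotent group, `x ^ [N : Q] ∈ Q` for every subgroup `Q`. -/
theorem pow_index_mem_of_isNilpotent {N : Type*} [Group N] [Finite N] [Group.IsNilpotent N]
    (Q : Subgroup N) (x : N) : x ^ Q.index ∈ Q := by
  suffices h : ∀ n : ℕ, ∀ Q : Subgroup N, Q.index = n → ∀ x : N, x ^ n ∈ Q from h _ Q rfl x
  intro n
  induction n using Nat.strong_induction_on with
  | _ n ih =>
    intro Q hQ x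
    by_cases hQt : Q = ⊤
    · rw [hQt]; exact Subgroup.mem_top _
    · have hlt : Q < normalizer (Q : Set N) :=
        Group.normalizerCondition_of_isNilpotent Q (lt_top_iff_ne_top.mpr hQt)
      have hle : Q ≤ normalizer (Q : Set N) := hlt.le
      have hmul := Subgroup.relIndex_mul_index hle
      have hne1 : Q.relIndex (normalizer (Q : Set N)) ≠ 1 := by
        intro h1
        rw [Subgroup.relIndex_eq_one] at h1
        exact absurd h1 (not_le_of_gt hlt)
      have hpos : 0 < (normalizer (Q : Set N)).index :=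
        Nat.pos_of_ne_zero Subgroup.index_ne_zero_of_finite
      have hrne : Q.relIndex (normalizer (Q : Set N)) ≠ 0 := by
        intro h0
        rw [h0, zero_mul] at hmul
        exact (Subgroup.index_ne_zero_of_finite (H := Q)) hmul.symm
      have hlt' : (normalizer (Q : Set N)).index < n := by
        rw [← hQ, ← hmul]
        have h2 : 2 ≤ Q.relIndex (normalizer (Q : Set N)) := by omega
        nlinarith
      have hy := ih _ hlt' (normalizer (Q : Set N)) rfl x
      have hz := Subgroup.pow_index_mem (Q.subgroupOf (normalizer (Q : Set N)))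
        ⟨x ^ (normalizer (Q : Set N)).index, hy⟩
      rw [Subgroup.mem_subgroupOf] at hz
      rw [← hQ, ← hmul, mul_comm, pow_mul]
      simpa [Subgroup.relIndex] using hz

/-- Coprime trick: if for each prime `p` some power `x ^ m` with `p ∤ m` lies in the normal
subgroup `K`, then `x ∈ K`. -/
theorem mem_of_forall_prime_pow_mem {G : Type*} [Group G] (K : Subgroup G) [K.Normal] (x : G)
    (h : ∀ p : ℕ, p.Prime → ∃ m : ℕ, ¬ p ∣ m ∧ x ^ m ∈ K) : x ∈ K := by
  rw [← QuotientGroup.eq_one_iff]
  by_contra hne
  have hd : orderOf (x : G ⧸ K) ≠ 1 := by rwa [Ne, orderOf_eq_one_iff]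
  obtain ⟨p, hp, hpd⟩ := Nat.exists_prime_and_dvd hd
  obtain ⟨m, hm, hxm⟩ := h p hp
  have h1 : (x : G ⧸ K) ^ m = 1 := by
    rw [← QuotientGroup.mk_pow, QuotientGroup.eq_one_iff]; exact hxm
  exact hm (hpd.trans (orderOf_dvd_of_pow_eq_one h1))

/-- The intersection of all Sylow `p`-subgroups. -/
def sylowCore (p : ℕ) (G : Type*) [Group G] : Subgroup G :=
  ⨅ P : Sylow p G, (P : Subgroup G)

theorem sylowCore_le (p : ℕ) {G : Type*} [Group G] (P : Sylow p G) :
    sylowCore p G ≤ (P : Subgroup G) := iInf_le _ P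

theorem sylowCore_isPGroup (p : ℕ) [Fact p.Prime] (G : Type*) [Group G] :
    IsPGroup p (sylowCore p G) := by
  obtain ⟨P⟩ : Nonempty (Sylow p G) := inferInstance
  exact P.isPGroup'.to_le (sylowCore_le p P)

theorem sylowCore_normal (p : ℕ) (G : Type*) [Group G] : (sylowCore p G).Normal := by
  constructor
  intro n hn g
  unfold sylowCore at hn ⊢
  rw [Subgroup.mem_iInf] at hn ⊢
  intro P
  have h1 := hn (g⁻¹ • P)
  rw [Sylow.coe_subgroup_smul] at h1
  rw [Subgroup.mem_pointwise_smul_iff_inv_smul_mem] at h1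
  simpa using h1

/-- A normal `p`-subgroup lies in every Sylow `p`-subgroup. -/
theorem le_sylowCore_of_normal (p : ℕ) [Fact p.Prime] {G : Type*} [Group G] [Finite G]
    (N : Subgroup G) [hN : N.Normal] (hp : IsPGroup p N) : N ≤ sylowCore p G := by
  unfold sylowCore
  rw [le_iInf_iff]
  intro P
  obtain ⟨Q, hQ⟩ := hp.exists_le_sylow
  obtain ⟨g, rfl⟩ := MulAction.exists_smul_eq G Q P
  intro x hx
  rw [Sylow.coe_subgroup_smul, Subgroup.mem_pointwise_smul_iff_inv_smul_mem]
  apply hQ
  have := hN.conj_mem x hx g⁻¹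
  simpa using this

/-- The join of the Sylow cores over the prime divisors of `|G|`. -/
def sylowCoreSup (G : Type*) [Group G] : Subgroup G :=
  ⨆ p : (Nat.card G).primeFactors, sylowCore (p : ℕ) G

theorem sylowCoreSup_normal (G : Type*) [Group G] : (sylowCoreSup G).Normal := by
  have : ∀ p : (Nat.card G).primeFactors, (sylowCore (p : ℕ) G).Normal :=
    fun p => sylowCore_normal _ G
  exact Subgroup.iSup_normal _

theorem sylowCore_le_sylowCoreSup (p : ℕ) [hp : Fact p.Prime] (G : Type*) [Group G] [Finite G] :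
    sylowCore p G ≤ sylowCoreSup G := by
  by_cases hdvd : p ∣ Nat.card G
  · have hmem : p ∈ (Nat.card G).primeFactors :=
      Nat.mem_primeFactors.mpr ⟨hp.out, hdvd, Nat.card_pos.ne'⟩
    exact le_iSup (fun q : (Nat.card G).primeFactors => sylowCore (q : ℕ) G) ⟨p, hmem⟩
  · have h1 : Nat.card (sylowCore p G) = 1 := by
      rcases (sylowCore_isPGroup p G).card_eq_or_dvd with h | h
      · exact h
      · exact absurd (h.trans (Subgroup.card_subgroup_dvd_card _)) hdvd
    rw [Subgroup.card_eq_one] at h1
    rw [h1]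
    exact bot_le

theorem sylowCoreSup_isNilpotent (G : Type*) [Group G] [Finite G] :
    Group.IsNilpotent (sylowCoreSup G) := by
  classical
  have hcomm : Pairwise fun i j : (Nat.card G).primeFactors =>
      ∀ x y : G, x ∈ sylowCore (i : ℕ) G → y ∈ sylowCore (j : ℕ) G → Commute x y := by
    intro i j hij x y hx hy
    have : Fact (i : ℕ).Prime := ⟨Nat.prime_of_mem_primeFactors i.2⟩
    have : Fact (j : ℕ).Prime := ⟨Nat.prime_of_mem_primeFactors j.2⟩
    have hne : (i : ℕ) ≠ (j : ℕ) := fun h => hij (Subtype.ext h)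
    exact Subgroup.commute_of_normal_of_disjoint _ _ (sylowCore_normal _ G) (sylowCore_normal _ G)
      (IsPGroup.disjoint_of_ne _ _ hne _ _ (sylowCore_isPGroup _ G) (sylowCore_isPGroup _ G)) x y hx hy
  have : ∀ i : (Nat.card G).primeFactors, Group.IsNilpotent (sylowCore (i : ℕ) G) := by
    intro i
    have : Fact (i : ℕ).Prime := ⟨Nat.prime_of_mem_primeFactors i.2⟩
    exact (sylowCore_isPGroup (i : ℕ) G).isNilpotent
  have hrange : (Subgroup.noncommPiCoprod hcomm).range = sylowCoreSup G :=
    Subgroup.noncommPiCoprod_range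
  have : Group.IsNilpotent (Subgroup.noncommPiCoprod hcomm).range :=
    Group.nilpotent_of_surjective (Subgroup.noncommPiCoprod hcomm).rangeRestrict
      (Subgroup.noncommPiCoprod hcomm).rangeRestrict_surjective
  exact hrange ▸ this

/-- Every normal nilpotent subgroup of a finite group lies in the join of the Sylow cores. -/
theorem le_sylowCoreSup_of_normal_of_isNilpotent {G : Type*} [Group G] [Finite G]
    (N : Subgroup G) [hN : N.Normal] [Group.IsNilpotent N] : N ≤ sylowCoreSup G := by
  intro x hx
  have := sylowCoreSup_normal G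
  apply mem_of_forall_prime_pow_mem
  intro p hp
  have : Fact p.Prime := ⟨hp⟩
  obtain ⟨P⟩ : Nonempty (Sylow p N) := inferInstance
  refine ⟨(P : Subgroup N).index, P.not_dvd_index, ?_⟩
  have h1 : (⟨x, hx⟩ : N) ^ (P : Subgroup N).index ∈ (P : Subgroup N) :=
    pow_index_mem_of_isNilpotent _ _
  have htfae := (Group.isNilpotent_of_finite_tfae (G := N)).out 0 3
  have hPn : (P : Subgroup N).Normal := htfae.mp ‹Group.IsNilpotent N› p ‹Fact p.Prime› P
  have hPc : (P : Subgroup N).Characteristic := Sylow.characteristic_of_normal P hPn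
  have hmapn : ((P : Subgroup N).map N.subtype).Normal :=
    ConjAct.normal_of_characteristic_of_normal
  have hmapp : IsPGroup p ((P : Subgroup N).map N.subtype) := P.isPGroup'.map _
  have h2 : x ^ (P : Subgroup N).index ∈ (P : Subgroup N).map N.subtype :=
    ⟨_, h1, by simp⟩
  exact sylowCore_le_sylowCoreSup p G (le_sylowCore_of_normal p _ hmapp h2)

theorem fittingSubgroup_normal (G : Type*) [Group G] : (Cfsg.fittingSubgroup G).Normal :=
  Subgroup.sSup_normal _ (fun _ h => h.1)

theorem le_fittingSubgroup {G : Type*} [Group G] (N : Subgroup G) (hN : N.Normal)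
    (hnil : Group.IsNilpotent N) : N ≤ Cfsg.fittingSubgroup G :=
  le_sSup ⟨hN, hnil⟩

theorem fittingSubgroup_eq_sylowCoreSup (G : Type*) [Group G] [Finite G] :
    Cfsg.fittingSubgroup G = sylowCoreSup G := by
  apply le_antisymm
  · apply sSup_le
    rintro N ⟨hN, hnil⟩
    exact le_sylowCoreSup_of_normal_of_isNilpotent N
  · exact le_fittingSubgroup _ (sylowCoreSup_normal G) (sylowCoreSup_isNilpotent G)

/-- Fitting's theorem for finite groups: the Fitting subgroup is nilpotent. -/
theorem fittingSubgroup_isNilpotent (G : Type*) [Group G] [Finite G] :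
    Group.IsNilpotent (Cfsg.fittingSubgroup G) := by
  rw [fittingSubgroup_eq_sylowCoreSup]
  exact sylowCoreSup_isNilpotent G

theorem sylowCore_le_fittingSubgroup (p : ℕ) [Fact p.Prime] (G : Type*) [Group G] [Finite G] :
    sylowCore p G ≤ Cfsg.fittingSubgroup G :=
  le_fittingSubgroup _ (sylowCore_normal p G) (sylowCore_isPGroup p G).isNilpotent

theorem card_mul_relIndex_of_le {G : Type*} [Group G] {H K : Subgroup G} (h : H ≤ K) :
    Nat.card H * H.relIndex K = Nat.card K := by
  have := Subgroup.relIndex_mul_relIndex ⊥ H K bot_le h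
  simpa using this

/-- If `K` is normal in the finite group `G`, then `[K : H ∩ K]` divides `[G : H]`. -/
theorem relIndex_dvd_index_of_normal_right {G : Type*} [Group G] [Finite G] (H K : Subgroup G)
    [K.Normal] : H.relIndex K ∣ H.index := by
  have e1 : H.relIndex (H ⊔ K) = H.relIndex K := by
    have a1 : H.relIndex (H ⊔ K) * Nat.card H = Nat.card (H ⊔ K : Subgroup G) := by
      rw [mul_comm]; exact card_mul_relIndex_of_le le_sup_left
    have a2 : K.relIndex (H ⊔ K) * Nat.card K = Nat.card (H ⊔ K : Subgroup G) := by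
      rw [mul_comm]; exact card_mul_relIndex_of_le le_sup_right
    have a3 : K.relIndex (H ⊔ K) = K.relIndex H := Subgroup.relIndex_sup_right H K
    have a4 : K.relIndex H * Nat.card (H ⊓ K : Subgroup G) = Nat.card H := by
      rw [← Subgroup.inf_relIndex_left, mul_comm]
      exact card_mul_relIndex_of_le inf_le_left
    have a5 : H.relIndex K * Nat.card (H ⊓ K : Subgroup G) = Nat.card K := by
      rw [← Subgroup.inf_relIndex_right, mul_comm]
      exact card_mul_relIndex_of_le inf_le_right
    have hpos : 0 < Nat.card H := Nat.card_pos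
    apply Nat.eq_of_mul_eq_mul_right hpos
    rw [a1, ← a2, a3, ← a5, ← a4]
    ring
  rw [← e1]
  exact Subgroup.relIndex_dvd_index_of_le le_sup_left

end Cfsg.Agent.Helper71
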