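import Mathlib

set_option autoImplicit false

namespace Cfsg.Agent.Helper71

/-- `g` fixes the coset `aH` iff `a⁻¹ g a ∈ H`. -/
theorem smul_coset_eq_iff {G : Type*} [Group G] (H : Subgroup G) (g a : G) :
    g • (a : G ⧸ H) = (a : G ⧸ H) ↔ a⁻¹ * g * a ∈ H := by
  rw [MulAction.Quotient.smul_mk, QuotientGroup.eq, smul_eq_mul, ← inv_mem_iff (x := a⁻¹ * g * a)]
  have e : (g * a)⁻¹ * a = (a⁻¹ * g * a)⁻¹ := by group
  rw [e]

/-- In the relative Frobenius setting, the elements of `Z` fix every coset of `H`. -/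
theorem fixedBy_eq_univ_of_mem {G : Type*} [Group G] (Z H : Subgroup G) [hZ : Z.Normal]
    (hZH : Z ≤ H) {g : G} (hg : g ∈ Z) : MulAction.fixedBy (G ⧸ H) g = Set.univ := by
  ext x
  simp only [MulAction.mem_fixedBy, Set.mem_univ, iff_true]
  obtain ⟨a, rfl⟩ := QuotientGroup.mk_surjective x
  rw [smul_coset_eq_iff]
  apply hZH
  have := hZ.conj_mem g hg a⁻¹
  simpa using this

theorem fixedBy_eq_empty_of_forall {G : Type*} [Group G] (H : Subgroup G) {g : G}
    (hg : ∀ a : G, a⁻¹ * g * a ∉ H) : MulAction.fixedBy (G ⧸ H) g = ∅ := by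
  ext x
  simp only [MulAction.mem_fixedBy, Set.mem_empty_iff_false, iff_false]
  obtain ⟨a, rfl⟩ := QuotientGroup.mk_surjective x
  rw [smul_coset_eq_iff]
  exact hg a

theorem fixedBy_eq_singleton {G : Type*} [Group G] (Z H : Subgroup G) [hZ : Z.Normal]
    (hF : ∀ g : G, g ∉ H → ∀ x ∈ H, g⁻¹ * x * g ∈ H → x ∈ Z) {g : G} (hgZ : g ∉ Z) {a : G}
    (ha : a⁻¹ * g * a ∈ H) : MulAction.fixedBy (G ⧸ H) g = {(a : G ⧸ H)} := by
  ext x
  simp only [MulAction.mem_fixedBy, Set.mem_singleton_iff]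
  obtain ⟨b, rfl⟩ := QuotientGroup.mk_surjective x
  rw [smul_coset_eq_iff]
  constructor
  · intro hb
    rw [eq_comm, QuotientGroup.eq]
    by_contra hc
    have h1 : (a⁻¹ * b)⁻¹ * (a⁻¹ * g * a) * (a⁻¹ * b) ∈ H := by
      have e : (a⁻¹ * b)⁻¹ * (a⁻¹ * g * a) * (a⁻¹ * b) = b⁻¹ * g * b := by group
      rw [e]; exact hb
    have h2 := hF _ hc _ ha h1
    apply hgZ
    have := hZ.conj_mem _ h2 a
    simpa [mul_assoc] using this
  · intro hb
    rw [QuotientGroup.eq] at hb
    have hb' : a⁻¹ * b ∈ H := by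
      have := H.inv_mem hb
      simpa using this
    have e : b⁻¹ * g * b = (a⁻¹ * b)⁻¹ * (a⁻¹ * g * a) * (a⁻¹ * b) := by group
    rw [e]
    exact H.mul_mem (H.mul_mem (H.inv_mem hb') ha) hb'

/-- Counting in the relative Frobenius setting: the "kernel" set has `|Z| * [G : H]` elements. -/
theorem card_kernel_set {G : Type*} [Group G] [Finite G] (Z H : Subgroup G) [hZ : Z.Normal]
    (hZH : Z ≤ H) (hF : ∀ g : G, g ∉ H → ∀ x ∈ H, g⁻¹ * x * g ∈ H → x ∈ Z) :
    Nat.card {x : G // x ∈ Z ∨ ∀ g : G, g⁻¹ * x * g ∉ H} = Nat.card Z * H.index := by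
  classical
  have : Fintype G := Fintype.ofFinite G
  have : Fintype (G ⧸ H) := Fintype.ofFinite _
  have : Fintype (MulAction.orbitRel.Quotient G (G ⧸ H)) := Fintype.ofFinite _
  have hB := MulAction.sum_card_fixedBy_eq_card_orbits_mul_card_group G (G ⧸ H)
  have horb : Fintype.card (MulAction.orbitRel.Quotient G (G ⧸ H)) = 1 := by
    have hsub : Subsingleton (MulAction.orbitRel.Quotient G (G ⧸ H)) :=
      (MulAction.pretransitive_iff_subsingleton_quotient G (G ⧸ H)).mp inferInstance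
    exact Fintype.card_eq_one_iff.mpr ⟨Quotient.mk'' ((1 : G) : G ⧸ H), fun y => Subsingleton.elim _ _⟩
  rw [horb, one_mul] at hB
  have hF1 : ∀ g : G, Fintype.card (MulAction.fixedBy (G ⧸ H) g) =
      (if g ∈ Z then H.index else 0) +
        (if (g ∈ Z ∨ ∀ a : G, a⁻¹ * g * a ∉ H) then 0 else 1) := by
    intro g
    rw [← Nat.card_eq_fintype_card, Nat.card_coe_set_eq]
    by_cases hgZ : g ∈ Z
    · rw [fixedBy_eq_univ_of_mem Z H hZH hgZ, Set.ncard_univ]
      simp [hgZ, Subgroup.index]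
    · by_cases hg : ∀ a : G, a⁻¹ * g * a ∉ H
      · rw [fixedBy_eq_empty_of_forall H hg]
        simp [hgZ, hg]
      · have hg' := hg
        push Not at hg'
        obtain ⟨a, ha⟩ := hg'
        rw [fixedBy_eq_singleton Z H hF hgZ ha, Set.ncard_singleton]
        simp [hgZ, hg]
  rw [Finset.sum_congr rfl (fun g _ => hF1 g), Finset.sum_add_distrib] at hB
  have hs1 : (∑ g : G, if g ∈ Z then H.index else 0) = Nat.card Z * H.index := by
    rw [← Finset.sum_filter, Finset.sum_const, smul_eq_mul, Nat.card_eq_fintype_card,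
      Fintype.card_subtype]
  have hs2 : (∑ g : G, if (g ∈ Z ∨ ∀ a : G, a⁻¹ * g * a ∉ H) then 0 else 1) +
      Nat.card {x : G // x ∈ Z ∨ ∀ g : G, g⁻¹ * x * g ∉ H} = Fintype.card G := by
    rw [Nat.card_eq_fintype_card, Fintype.card_subtype]
    have h3 : (∑ g : G, if (g ∈ Z ∨ ∀ a : G, a⁻¹ * g * a ∉ H) then 0 else 1) =
        (Finset.univ.filter (fun g : G => ¬ (g ∈ Z ∨ ∀ a : G, a⁻¹ * g * a ∉ H))).card := by
      rw [Finset.card_filter]
      apply Finset.sum_congr rfl
      intro g _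
      by_cases h : (g ∈ Z ∨ ∀ a : G, a⁻¹ * g * a ∉ H) <;> simp [h]
    rw [h3, add_comm]
    exact Finset.card_filter_add_card_filter_not _
  rw [hs1] at hB
  omega

/-- In the relative Frobenius setting `[H : Z]` divides `[G : H] - 1`, in additive form. -/
theorem exists_index_add_relIndex {G : Type*} [Group G] [Finite G] (Z H : Subgroup G)
    [hZ : Z.Normal] (hZH : Z ≤ H)
    (hF : ∀ g : G, g ∉ H → ∀ x ∈ H, g⁻¹ * x * g ∈ H → x ∈ Z) :
    ∃ q : ℕ, H.index + Z.relIndex H = q * Z.relIndex H + 1 := by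
  classical
  have : Fintype H := Fintype.ofFinite H
  have : Fintype (G ⧸ H) := Fintype.ofFinite _
  have : Fintype (MulAction.orbitRel.Quotient H (G ⧸ H)) := Fintype.ofFinite _
  have hB := MulAction.sum_card_fixedBy_eq_card_orbits_mul_card_group H (G ⧸ H)
  have hfix : ∀ h : H, MulAction.fixedBy (G ⧸ H) h = MulAction.fixedBy (G ⧸ H) (h : G) := by
    intro h
    ext x
    simp only [MulAction.mem_fixedBy]
    rfl
  have hF1 : ∀ h : H, Fintype.card (MulAction.fixedBy (G ⧸ H) h) =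
      (if (h : G) ∈ Z then H.index else 0) + (if (h : G) ∈ Z then 0 else 1) := by
    intro h
    rw [← Nat.card_eq_fintype_card, Nat.card_coe_set_eq, hfix]
    by_cases hgZ : (h : G) ∈ Z
    · rw [fixedBy_eq_univ_of_mem Z H hZH hgZ, Set.ncard_univ]
      simp [hgZ, Subgroup.index]
    · have ha : (1 : G)⁻¹ * (h : G) * 1 ∈ H := by simp
      rw [fixedBy_eq_singleton Z H hF hgZ ha, Set.ncard_singleton]
      simp [hgZ]
  rw [Finset.sum_congr rfl (fun g _ => hF1 g), Finset.sum_add_distrib] at hB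
  have hcZ : (Finset.univ.filter (fun h : H => (h : G) ∈ Z)).card = Nat.card Z := by
    have e : {h : H // (h : G) ∈ Z} ≃ Z :=
      { toFun := fun h => ⟨h.1.1, h.2⟩
        invFun := fun z => ⟨⟨z.1, hZH z.2⟩, z.2⟩
        left_inv := fun h => rfl
        right_inv := fun z => rfl }
    rw [← Nat.card_congr e, Nat.card_eq_fintype_card, Fintype.card_subtype]
  have hs1 : (∑ h : H, if (h : G) ∈ Z then H.index else 0) = Nat.card Z * H.index := by
    rw [← Finset.sum_filter, Finset.sum_const, smul_eq_mul, hcZ]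
  have hs2 : (∑ h : H, if (h : G) ∈ Z then 0 else 1) + Nat.card Z = Nat.card H := by
    have h3 : (∑ h : H, if (h : G) ∈ Z then 0 else 1) =
        (Finset.univ.filter (fun h : H => ¬ ((h : G) ∈ Z))).card := by
      rw [Finset.card_filter]
      apply Finset.sum_congr rfl
      intro g _
      by_cases h : ((g : G) ∈ Z) <;> simp [h]
    rw [h3, ← hcZ, add_comm, Nat.card_eq_fintype_card]
    exact Finset.card_filter_add_card_filter_not _
  rw [hs1] at hB
  have hcard : Nat.card Z * Z.relIndex H = Nat.card H := by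
    have := Subgroup.relIndex_mul_relIndex ⊥ Z H bot_le hZH
    simpa using this
  have hzpos : 0 < Nat.card Z := Nat.card_pos
  refine ⟨Fintype.card (MulAction.orbitRel.Quotient H (G ⧸ H)), ?_⟩
  rw [← Nat.card_eq_fintype_card (α := H), ← hcard] at hB
  rw [← hcard] at hs2
  apply Nat.eq_of_mul_eq_mul_left hzpos
  have h4 : Nat.card Z * (Fintype.card (MulAction.orbitRel.Quotient H (G ⧸ H)) * Z.relIndex H + 1)
      = Fintype.card (MulAction.orbitRel.Quotient H (G ⧸ H)) * (Nat.card Z * Z.relIndex H)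
        + Nat.card Z := by ring
  rw [h4, ← hB, mul_add]
  omega

end Cfsg.Agent.Helper71
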