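import Mathlib
import Cfsg.Prelude.Def_Solvable

set_option autoImplicit false

namespace Cfsg.Agent.Helper71

open scoped Pointwise

/-- Membership in `MulAut.conj g • K`. -/
theorem mem_conj_smul {L : Type*} [Group L] (K : Subgroup L) (g x : L) :
    x ∈ MulAut.conj g • K ↔ g⁻¹ * x * g ∈ K := by
  rw [Subgroup.mem_pointwise_smul_iff_inv_smul_mem, MulAut.smul_def, MulAut.conj_inv_apply]

/-- Elementwise form of the Frobenius-complement predicate. -/
theorem isFrobeniusComplement_iff {L : Type*} [Group L] (K : Subgroup L) :
    Cfsg.IsFrobeniusComplement K ↔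
      K ≠ ⊥ ∧ K ≠ ⊤ ∧ ∀ g : L, g ∉ K → ∀ x : L, x ∈ K → g⁻¹ * x * g ∈ K → x = 1 := by
  unfold Cfsg.IsFrobeniusComplement
  refine and_congr Iff.rfl (and_congr Iff.rfl (forall_congr' fun g => forall_congr' fun _ => ?_))
  rw [Subgroup.eq_bot_iff_forall]
  constructor
  · intro h x hx hgx
    exact h x ⟨hx, (mem_conj_smul K g x).mpr hgx⟩
  · intro h x hx
    exact h x hx.1 ((mem_conj_smul K g x).mp hx.2)

/-- A fixed-point-free action gives a Frobenius complement in the semidirect product. -/
theorem isFrobeniusComplement_inr_range {N H : Type*} [Group N] [Group H] (φ : H →* MulAut N)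
    [Nontrivial N] [Nontrivial H]
    (hfree : ∀ h : H, h ≠ 1 → ∀ n : N, φ h n = n → n = 1) :
    Cfsg.IsFrobeniusComplement (SemidirectProduct.inr : H →* N ⋊[φ] H).range := by
  rw [isFrobeniusComplement_iff]
  refine ⟨?_, ?_, ?_⟩
  · obtain ⟨h, hh⟩ := exists_ne (1 : H)
    intro hbot
    have hmem : (SemidirectProduct.inr h : N ⋊[φ] H) ∈
        (SemidirectProduct.inr : H →* N ⋊[φ] H).range := ⟨h, rfl⟩
    rw [hbot, Subgroup.mem_bot] at hmem
    have := congrArg SemidirectProduct.right hmem
    simp at this
    exact hh this
  · obtain ⟨n, hn⟩ := exists_ne (1 : N)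
    intro htop
    have hmem : (SemidirectProduct.inl n : N ⋊[φ] H) ∈
        (SemidirectProduct.inr : H →* N ⋊[φ] H).range := by rw [htop]; exact Subgroup.mem_top _
    obtain ⟨h, hh⟩ := hmem
    have := congrArg SemidirectProduct.left hh
    simp at this
    exact hn this.symm
  · rintro g hg x ⟨k, rfl⟩ ⟨k', hk'⟩
    have hgl : g.left ≠ 1 := by
      intro h1
      apply hg
      refine ⟨g.right, ?_⟩
      apply SemidirectProduct.ext
      · simp [h1]
      · simp
    have heq : (SemidirectProduct.inr k : N ⋊[φ] H) * g = g * SemidirectProduct.inr k' := by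
      rw [hk']; group
    have hl := congrArg SemidirectProduct.left heq
    simp only [SemidirectProduct.mul_left, SemidirectProduct.left_inr,
      SemidirectProduct.right_inr, one_mul, map_one, mul_one] at hl
    have hk1 : k = 1 := by
      by_contra hk
      exact hgl (hfree k hk g.left hl)
    rw [hk1, map_one]

/-- Frobenius complements are preserved by group isomorphisms. -/
theorem isFrobeniusComplement_map_equiv {L L' : Type*} [Group L] [Group L'] (e : L ≃* L')
    (K : Subgroup L) (hK : Cfsg.IsFrobeniusComplement K) :
    Cfsg.IsFrobeniusComplement (K.map e.toMonoidHom) := by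
  rw [isFrobeniusComplement_iff] at hK ⊢
  obtain ⟨h1, h2, h3⟩ := hK
  refine ⟨?_, ?_, ?_⟩
  · intro hbot
    apply h1
    rw [Subgroup.eq_bot_iff_forall] at hbot ⊢
    intro x hx
    have := hbot (e x) ⟨x, hx, rfl⟩
    exact e.injective (by rw [this, map_one])
  · intro htop
    apply h2
    rw [Subgroup.eq_top_iff'] at htop ⊢
    intro x
    obtain ⟨y, hy, hyx⟩ := htop (e x)
    have : y = x := e.injective hyx
    rw [← this]; exact hy
  · intro g hg x hx hgx
    obtain ⟨y, hy, rfl⟩ := hx
    obtain ⟨z, hz, hzx⟩ := hgx
    have hgK : e.symm g ∉ K := by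
      intro h
      apply hg
      exact ⟨e.symm g, h, by simp⟩
    have hz' : z = (e.symm g)⁻¹ * y * e.symm g := by
      apply e.injective
      have : e z = g⁻¹ * e y * g := hzx
      rw [this]
      simp
    have := h3 (e.symm g) hgK y hy (hz' ▸ hz)
    show e y = 1
    rw [this, map_one]

/-- Transport of a Frobenius complement of a finite group to universe `0`. -/
theorem exists_frobenius_type0 {L' : Type*} [Group L'] [Finite L'] (K' : Subgroup L')
    (hK' : Cfsg.IsFrobeniusComplement K') :
    ∃ (L : Type) (_ : Group L) (_ : Finite L) (K : Subgroup L),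
      Cfsg.IsFrobeniusComplement K ∧ Nonempty (K' ≃* K) := by
  have e : Shrink.{0} L' ≃* L' := Shrink.mulEquiv
  refine ⟨Shrink.{0} L', inferInstance, Finite.of_equiv L' e.symm.toEquiv,
    K'.map e.symm.toMonoidHom, isFrobeniusComplement_map_equiv e.symm K' hK', ?_⟩
  exact ⟨e.symm.subgroupMap K'⟩

/-- The semidirect product of two finite groups is finite. -/
theorem finite_semidirectProduct {N H : Type*} [Group N] [Group H] [Finite N] [Finite H]
    (φ : H →* MulAut N) : Finite (N ⋊[φ] H) :=
  Finite.of_equiv _ SemidirectProduct.equivProd.symm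

/-- A fixed-point-free action by automorphisms gives an abstract Frobenius complement. -/
theorem exists_frobenius_of_free_mulAut {N H : Type*} [Group N] [Group H] [Finite N] [Finite H]
    [Nontrivial N] [Nontrivial H] (φ : H →* MulAut N)
    (hfree : ∀ h : H, h ≠ 1 → ∀ n : N, φ h n = n → n = 1) :
    ∃ (L : Type) (_ : Group L) (_ : Finite L) (K : Subgroup L),
      Cfsg.IsFrobeniusComplement K ∧ Nonempty (H ≃* K) := by
  have hfin := finite_semidirectProduct φ
  obtain ⟨L, iG, iF, K, hK, ⟨e⟩⟩ :=
    exists_frobenius_type0 _ (isFrobeniusComplement_inr_range φ hfree)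
  exact ⟨L, iG, iF, K, hK,
    ⟨(MonoidHom.ofInjective (SemidirectProduct.inr_injective (φ := φ))).trans e⟩⟩

/-- The action of a group on the multiplicative version of an additive group on which it acts
distributively. -/
def actHom (H A : Type*) [Group H] [AddGroup A] [DistribMulAction H A] :
    H →* MulAut (Multiplicative A) where
  toFun h :=
    { toFun := fun a => Multiplicative.ofAdd (h • Multiplicative.toAdd a)
      invFun := fun a => Multiplicative.ofAdd (h⁻¹ • Multiplicative.toAdd a)
      left_inv := fun a => by simp
      right_inv := fun a => by simp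
      map_mul' := fun a b => by simp [smul_add] }
  map_one' := by ext a; simp
  map_mul' g h := by ext a; simp [mul_smul]

theorem actHom_apply (H A : Type*) [Group H] [AddGroup A] [DistribMulAction H A] (h : H)
    (a : Multiplicative A) :
    actHom H A h a = Multiplicative.ofAdd (h • Multiplicative.toAdd a) := rfl

/-- A fixed-point-free distributive action on a finite additive group gives an abstract
Frobenius complement. -/
theorem exists_frobenius_of_free_distribMulAction {H A : Type*} [Group H] [Finite H]
    [Nontrivial H] [AddGroup A] [Finite A] [Nontrivial A] [DistribMulAction H A]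
    (hfree : ∀ h : H, h ≠ 1 → ∀ a : A, h • a = a → a = 0) :
    ∃ (L : Type) (_ : Group L) (_ : Finite L) (K : Subgroup L),
      Cfsg.IsFrobeniusComplement K ∧ Nonempty (H ≃* K) := by
  apply exists_frobenius_of_free_mulAut (actHom H A)
  intro h hh n hn
  rw [actHom_apply] at hn
  have h1 : h • Multiplicative.toAdd n = Multiplicative.toAdd n := by
    have := congrArg Multiplicative.toAdd hn
    simpa using this
  have h2 := hfree h hh _ h1
  exact Multiplicative.toAdd.injective (by simpa using h2)

end Cfsg.Agent.Helper71
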