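import Mathlib
import Cfsg.Agent.Helper56.ZRing
import Cfsg.Agent.Helper19.ThompsonThesis

/-!
# From a fixed-point-free group of automorphisms to a fixed-point-free ring representation

If a nontrivial group `G` of automorphisms of a finite group `K` acts without fixed points, then
`K` is nilpotent (Thompson), its centre `Z(K)` is a nontrivial characteristic abelian subgroup,
and `G` acts on the ring `End (Z(K))` with `ρ g - 1` invertible for `g ≠ 1`.
-/

set_option autoImplicit false

namespace Cfsg.Agent.Helper71

universe u

open scoped IsMulCommutative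

/-- The restriction of an automorphism to the centre. -/
def fpfCenterHom {K : Type u} [Group K] (φ : MulAut K) : Subgroup.center K →* Subgroup.center K :=
  (φ.toMonoidHom.comp (Subgroup.center K).subtype).codRestrict (Subgroup.center K) (by
    intro z
    rw [Subgroup.mem_center_iff]
    intro k
    have h := Subgroup.mem_center_iff.mp z.2 (φ.symm k)
    have h2 := congrArg φ h
    simpa using h2)

theorem fpfCenterHom_apply {K : Type u} [Group K] (φ : MulAut K) (z : Subgroup.center K) :
    ((fpfCenterHom φ z : Subgroup.center K) : K) = φ z := rfl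

/-- The representation of a group of automorphisms on the endomorphism ring of the centre. -/
def fpfCenterRep {K : Type u} [Group K] (G : Subgroup (MulAut K)) :
    G →* AddMonoid.End (Additive (Subgroup.center K)) where
  toFun g := MonoidHom.toAdditive (fpfCenterHom (g : MulAut K))
  map_one' := by
    apply AddMonoidHom.ext
    intro a
    apply Additive.toMul.injective
    apply Subtype.ext
    rfl
  map_mul' g h := by
    apply AddMonoidHom.ext
    intro a
    apply Additive.toMul.injective
    apply Subtype.ext
    rfl

theorem fpfCenterRep_apply {K : Type u} [Group K] (G : Subgroup (MulAut K)) (g : G)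
    (a : Additive (Subgroup.center K)) :
    (((Additive.toMul (fpfCenterRep G g a) : Subgroup.center K)) : K) =
      (g : MulAut K) ((Additive.toMul a : Subgroup.center K) : K) := rfl

/-- **Interface lemma for Zassenhaus' theorem**: a nontrivial fixed-point-free group of
automorphisms of a finite group has a fixed-point-free ring representation. -/
theorem exists_fpf_ring {K : Type u} [Group K] [Finite K] (G : Subgroup (MulAut K))
    (hfpf : ∀ φ ∈ G, φ ≠ 1 → ∀ k : K, φ k = k → k = 1) (hperf : commutator G = ⊤)
    (hne : G ≠ ⊥) :
    ∃ (R : Type u) (_ : Ring R) (_ : Nontrivial R) (ρ : G →* R), Cfsg.Agent.Helper56.Fpf ρ := by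
  classical
  have hfinA : Finite (MulAut K) :=
    Finite.of_injective (fun e : MulAut K => (e : K → K)) DFunLike.coe_injective
  have hntG : Nontrivial G := (Subgroup.nontrivial_iff_ne_bot G).mpr hne
  -- an element of prime order
  have hcard : Nat.card G ≠ 1 := by
    intro h1
    have := (Finite.one_lt_card_iff_nontrivial (α := G)).mpr hntG
    omega
  obtain ⟨p, hp, hpd⟩ := Nat.exists_prime_and_dvd hcard
  have : Fact p.Prime := ⟨hp⟩
  obtain ⟨g, hg⟩ := exists_prime_orderOf_dvd_card' p hpd
  have hg1 : (g : MulAut K) ≠ 1 := by
    intro h1
    have h2 : g = 1 := Subtype.ext h1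
    rw [h2, orderOf_one] at hg
    exact hp.one_lt.ne hg
  have hgp : (g : MulAut K) ^ p = 1 := by
    have h1 : g ^ p = 1 := by rw [← hg]; exact pow_orderOf_eq_one g
    have h2 := congrArg Subtype.val h1
    simpa using h2
  have hnil : Group.IsNilpotent K := by
    apply Cfsg.Agent.Helper19.thompson_thesis hp ((g : MulAut K).toMonoidHom)
    refine ⟨fun k hk => hfpf _ g.2 hg1 k hk, fun k => ?_⟩
    have key : ∀ n : ℕ, ((⇑((g : MulAut K).toMonoidHom))^[n]) k = ((g : MulAut K) ^ n) k := by
      intro n
      induction n with
      | zero => simp
      | succ n ih =>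
        rw [Function.iterate_succ_apply', ih, pow_succ', MulAut.mul_apply]
        rfl
    rw [key, hgp, MulAut.one_apply]
  have hntK : Nontrivial K := by
    obtain ⟨k, hk⟩ : ∃ k : K, (g : MulAut K) k ≠ k := by
      by_contra hno
      push Not at hno
      exact hg1 (MulEquiv.ext hno)
    exact ⟨⟨_, _, hk⟩⟩
  have hcen : Subgroup.center K ≠ ⊥ := Group.IsNilpotent.center_ne_bot K
  have hntZ : Nontrivial (Subgroup.center K) := (Subgroup.nontrivial_iff_ne_bot _).mpr hcen
  have hntA : Nontrivial (Additive (Subgroup.center K)) := hntZ
  refine ⟨AddMonoid.End (Additive (Subgroup.center K)), inferInstance, ?_, fpfCenterRep G, ?_⟩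
  · obtain ⟨a, ha⟩ := exists_ne (0 : Additive (Subgroup.center K))
    refine ⟨⟨0, 1, fun h01 => ha ?_⟩⟩
    have h1 : (0 : AddMonoid.End (Additive (Subgroup.center K))) a =
        (1 : AddMonoid.End (Additive (Subgroup.center K))) a := by rw [h01]
    simpa using h1.symm
  · intro x hx
    have hx1 : (x : MulAut K) ≠ 1 := fun h1 => hx (Subtype.ext h1)
    have hinj : Function.Injective (fpfCenterRep G x - 1 :
        AddMonoid.End (Additive (Subgroup.center K))) := by
      rw [injective_iff_map_eq_zero]
      intro a ha
      have h1 : fpfCenterRep G x a = a := by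
        have h2 : (fpfCenterRep G x - 1 : AddMonoid.End (Additive (Subgroup.center K))) a =
            fpfCenterRep G x a - a := rfl
        rw [h2] at ha
        exact sub_eq_zero.mp ha
      have h3 := fpfCenterRep_apply G x a
      rw [h1] at h3
      have h4 := hfpf _ x.2 hx1 _ h3.symm
      apply Additive.toMul.injective
      apply Subtype.ext
      simpa using h4
    have hbij : Function.Bijective (fpfCenterRep G x - 1 :
        AddMonoid.End (Additive (Subgroup.center K))) :=
      Finite.injective_iff_bijective.mp hinj
    let e : Additive (Subgroup.center K) ≃+ Additive (Subgroup.center K) :=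
      AddEquiv.ofBijective (fpfCenterRep G x - 1 :
        AddMonoid.End (Additive (Subgroup.center K))) hbij
    refine ⟨⟨fpfCenterRep G x - 1, e.symm.toAddMonoidHom, ?_, ?_⟩, rfl⟩
    · apply AddMonoidHom.ext
      intro a
      exact e.apply_symm_apply a
    · apply AddMonoidHom.ext
      intro a
      exact e.symm_apply_apply a

end Cfsg.Agent.Helper71
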