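import Mathlib
import Cfsg.Prelude.Def_OddOrderLocal

/-!
# CALL BG18, piece TIG (helper71): the TI criterion
-/

set_option autoImplicit false

namespace Cfsg.Agent.Helper71

open Cfsg Subgroup

universe u

variable {G : Type u} [Group G]

/-- TIG (pure). A nonempty set `X` normalised by `M` such that `x, g x g⁻¹ ∈ X` forces `g ∈ M`
is a TI-subset with set normaliser `M`. -/
theorem bg18_ti_of_forall (X : Set G) (M : Subgroup G) (hMN : M ≤ normalizer X)
    (hne : X.Nonempty) (h : ∀ g : G, ∀ x ∈ X, g * x * g⁻¹ ∈ X → g ∈ M) :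
    IsTISubset X ∧ normalizer X = M := by
  have hN : normalizer X = M := by
    apply le_antisymm _ hMN
    intro g hg
    obtain ⟨x, hx⟩ := hne
    exact h g x hx ((Subgroup.mem_set_normalizer_iff.mp hg x).mp hx)
  refine ⟨?_, hN⟩
  intro g hg x hx hgx
  exact absurd (hN ▸ h g x hx hgx) hg

end Cfsg.Agent.Helper71
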