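import Mathlib
import Cfsg.Agent.Helper98.C2Asm

/-!
# Helper71: the class C2 maximality core of helper98 (`Helper98.C2Asm.c2_core`) with the dimension
hypothesis `13 ≤ n` weakened to what the proof uses (`n ≥ 7` in the monomial case, at least three
blocks when the blocks have size two).  Same proofs, other bounds.
-/

set_option autoImplicit false
set_option linter.unusedSectionVars false
set_option linter.unusedVariables false
set_option linter.unusedSimpArgs false
set_option linter.style.haveILetI false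

namespace Cfsg.Agent.Helper71.C2Low

open Cfsg.Agent.Helper98.C2Asm

open Matrix Cfsg.Agent.Helper98.C2
open Cfsg.Agent.Helper14.C2T
open Cfsg.Agent.Helper14.C2XA
open Cfsg.Agent.Helper20.C2I1
open Cfsg.Agent.Helper20.C2I3a
open Cfsg.Agent.Helper27.C2R1
open Cfsg.Agent.Helper28.C2P
open Cfsg.Agent.Helper28.C2X5b
open Cfsg.Agent.Helper28.C2Z
open Cfsg.Agent.Helper31.C2B3
open Cfsg.Agent.Helper33.C2LS
open Cfsg.Agent.Helper39.C2I2a
open Cfsg.Agent.Helper39.C2I2b
open Cfsg.Agent.Helper4.C2BS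
open Cfsg.Agent.Helper4.C2FZ
open Cfsg.Agent.Helper42.C2XI
open Cfsg.Agent.Helper48.C2X5a
open Cfsg.Agent.Helper55.C2R2
open Cfsg.Agent.Helper58.C2L
open Cfsg.Agent.Helper65.C2I3b
open Cfsg.Agent.Helper65.C2XM3
open Cfsg.Agent.Helper67.C2B2
open Cfsg.Agent.Helper73.C2A1
open Cfsg.Agent.Helper73.C2I4
open Cfsg.Agent.Helper75.C2X1
open Cfsg.Agent.Helper91.C2A2
open Cfsg.Agent.Helper91.C2G
open Cfsg.Agent.Helper91.C2I2c
open Cfsg.Agent.Helper97.C2XF
open Cfsg.Agent.Helper97.C2XM2
open scoped MatrixGroups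

variable {K : Type*} [Field K]

/-- the monomial case, for `n = m + 1 ≥ 7` (same proof as `Helper98.C2Asm.mono_main`) -/
theorem mono_main_low [Fintype K] (hq : 5 ≤ Fintype.card K) (m : ℕ) (hm : 6 ≤ m)
    (M : Subgroup (GL (Fin (m + 1)) K)) (hH : MonSLLE M)
    (hdet : ∀ g ∈ M, g.1.det = 1) (g0 : GL (Fin (m + 1)) K) (hg0 : g0 ∈ M)
    (hgm : ¬ IsMono g0.1) :
    ∀ g : GL (Fin (m + 1)) K, g.1.det = 1 → g ∈ M := by
  obtain ⟨h, hh, hhm, hhf⟩ := partI hq (m + 1) (by omega) M hH g0 hg0 hgm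
  obtain ⟨h', hh', hhm', hk0⟩ := fix_zero_sl m (by omega) M hH h hh hhm hhf
  obtain ⟨r, hr, hreq⟩ := blockSub_of_fix m M h' hh' hk0
  have hT : HasTv M := by
    by_cases hrm : IsMono r.1
    · exact lift_mono_sl hq m (by omega) M hH h' hh' (hdet h' hh') hk0 (by rwa [← hreq]) hhm'
    · obtain ⟨r', hr', a, b, hab, c, hc, heq⟩ :=
        thmB hq m (by omega) (by omega) (blockSub m M) (monLE_blockSub_sl m M hH) r hr hrm
      obtain ⟨k, hk, hk0', hkb⟩ := (mem_blockSub m M r').1 hr'
      exact lift_tv_sl hq m (by omega) M hH k hk (hdet k hk) hk0' a b hab c hc (hkb.trans heq)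
  exact tv_sl (m + 1) (by omega) M hH hT

/-! ### Blocks -/

theorem c2_core_low {F : Type*} [Field F] [Fintype F] (n : ℕ) {t : ℕ} (m : ℕ)
    (hn1 : m = 1 → 7 ≤ n) (ht3' : m = 2 → 3 ≤ t)
    (hm : 0 < m) (ht : 2 ≤ t)
    (h1 : ¬ (m = 1 ∧ Fintype.card F ≤ 4)) (h2 : ¬ (m = 2 ∧ Fintype.card F = 2))
    (S : Subgroup (GL (Fin n) F)) (P : GL (Fin n) F) (blk : Fin n → Fin t)
    (hfib : ∀ b : Fin t, (Finset.univ.filter (fun i => blk i = b)).card = m)
    (hiff : ∀ g : GL (Fin n) F, g ∈ S ↔ IsBlkMono blk (P⁻¹ * g * P : GL (Fin n) F).1) :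
    Cfsg.Geo.IsMaximalIn (Cfsg.Geo.specialLinear (Fin n) F)
      (S ⊓ Cfsg.Geo.specialLinear (Fin n) F) := by
  have hnt : n = t * m := by
    have h := Finset.card_eq_sum_card_fiberwise (f := blk) (s := Finset.univ)
      (t := Finset.univ) (fun x _ => Finset.mem_univ _)
    simp only [hfib, Finset.sum_const, Finset.card_univ, Fintype.card_fin, smul_eq_mul] at h
    exact h
  have hfne : ∀ b : Fin t, ∃ i, blk i = b := by
    intro b
    have h := hfib b
    have hpos : 0 < (Finset.univ.filter (fun i => blk i = b)).card := by omega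
    obtain ⟨i, hi⟩ := Finset.card_pos.1 hpos
    exact ⟨i, by simpa using hi⟩
  constructor
  · -- properness
    rw [SetLike.lt_iff_le_and_exists]
    refine ⟨inf_le_right, ?_⟩
    obtain ⟨i, hi⟩ := hfne ⟨0, by omega⟩
    obtain ⟨j, hj⟩ := hfne ⟨1, by omega⟩
    have hbij : blk i ≠ blk j := by
      rw [hi, hj]
      intro h
      have := congrArg Fin.val h
      simp at this
    have hij : i ≠ j := fun h => hbij (by rw [h])
    obtain ⟨T, hT⟩ : ∃ T : GL (Fin n) F, T.1 = Matrix.transvection i j 1 :=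
      ⟨glOfDet _ (Matrix.det_transvection_of_ne _ _ hij 1), rfl⟩
    refine ⟨P * T * P⁻¹, ?_, ?_⟩
    · rw [Cfsg.Agent.Helper98.C2Asm.mem_sl_iff, Cfsg.Agent.Helper98.C2Asm.det_conj, hT, Matrix.det_transvection_of_ne _ _ hij]
    · intro hmem
      have hS := (hiff _).1 (Subgroup.mem_inf.1 hmem).1
      have hconj : P⁻¹ * (P * T * P⁻¹) * P = T := by group
      rw [hconj, hT] at hS
      obtain ⟨σ, hσ⟩ := hS
      have hdiag : ∀ p, blk p = σ (blk p) := by
        intro p
        by_contra hne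
        have := hσ p p hne
        have hnp : ¬ (i = p ∧ j = p) := by
          rintro ⟨rfl, rfl⟩
          exact hij rfl
        simp [Matrix.transvection, Matrix.single_apply, hnp] at this
      have hoff : blk i = σ (blk j) := by
        by_contra hne
        have := hσ i j hne
        simp [Matrix.transvection, Matrix.single_apply, hij] at this
      exact hbij (hoff.trans (hdiag j).symm)
  · -- maximality
    intro M' hle hleSL
    by_cases hMH : M' = S ⊓ Cfsg.Geo.specialLinear (Fin n) F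
    · exact Or.inl hMH
    · right
      obtain ⟨g0, hg0, hg0H⟩ := SetLike.exists_of_lt (lt_of_le_of_ne hle (Ne.symm hMH))
      have hg0S : g0 ∉ S := fun h => hg0H (Subgroup.mem_inf.2 ⟨h, hleSL hg0⟩)
      obtain ⟨M'', hM''⟩ : ∃ M'' : Subgroup (GL (Fin n) F),
          ∀ x, x ∈ M'' ↔ P * x * P⁻¹ ∈ M' :=
        ⟨M'.comap (MulAut.conj P).toMonoidHom, fun x => by
          rw [Subgroup.mem_comap]
          rfl⟩
      have hBlk : BlkLE blk M'' := by
        intro x hx hdet
        rw [hM'']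
        apply hle
        refine Subgroup.mem_inf.2 ⟨(hiff _).2 ?_, (Cfsg.Agent.Helper98.C2Asm.mem_sl_iff _).2 ?_⟩
        · have hconj : P⁻¹ * (P * x * P⁻¹) * P = x := by group
          rw [hconj]
          exact hx
        · rw [Cfsg.Agent.Helper98.C2Asm.det_conj]
          exact hdet
      have hdetM : ∀ x ∈ M'', x.1.det = 1 := by
        intro x hx
        rw [hM''] at hx
        have := (Cfsg.Agent.Helper98.C2Asm.mem_sl_iff _).1 (hleSL hx)
        rwa [Cfsg.Agent.Helper98.C2Asm.det_conj] at this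
      have hg0' : P⁻¹ * g0 * P ∈ M'' := by
        rw [hM'']
        have hconj : P * (P⁻¹ * g0 * P) * P⁻¹ = g0 := by group
        rw [hconj]
        exact hg0
      have hg0n : ¬ IsBlkMono blk (P⁻¹ * g0 * P : GL (Fin n) F).1 := fun h => hg0S ((hiff _).2 h)
      have hall : ∀ x : GL (Fin n) F, x.1.det = 1 → x ∈ M'' := by
        rcases Nat.lt_or_ge m 2 with hm1 | hm2
        · have hm1' : m = 1 := by omega
          subst hm1'
          have hq : 5 ≤ Fintype.card F := by
            by_contra hlt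
            exact h1 ⟨rfl, by omega⟩
          have hMon : MonSLLE M'' := fun x hx hdet =>
            hBlk x ((isBlkMono_iff_isMono blk hfib _).2 hx) hdet
          have hg0m : ¬ IsMono (P⁻¹ * g0 * P : GL (Fin n) F).1 := fun h =>
            hg0n ((isBlkMono_iff_isMono blk hfib _).2 h)
          have hn7 : 7 ≤ n := hn1 rfl
          obtain ⟨m', rfl⟩ : ∃ m', n = m' + 1 := ⟨n - 1, by omega⟩
          exact mono_main_low hq m' (by omega) M'' hMon hdetM _ hg0' hg0m
        · obtain ⟨a, φ, hφa, hφ, ha, k, hk, hkeq⟩ :=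
            blk_mixed blk m hm2 hfib M'' hBlk _ hg0' hg0n
          have ht3 : m = 2 → 3 ≤ t := ht3'
          have hT := blk_cross blk m hm2 hfib h2 ht3 M'' hBlk a φ hφa hφ ha k hk hkeq
          exact blk_sl blk m hm2 hfib M'' hBlk hT
      apply le_antisymm hleSL
      intro g hg
      have hg' := hall (P⁻¹ * g * P) (by rw [Cfsg.Agent.Helper98.C2Asm.det_conj']; exact (Cfsg.Agent.Helper98.C2Asm.mem_sl_iff g).1 hg)
      rw [hM''] at hg'
      have hconj : P * (P⁻¹ * g * P) * P⁻¹ = g := by group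
      rwa [hconj] at hg'

end Cfsg.Agent.Helper71.C2Low
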