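import Mathlib

set_option autoImplicit false

namespace Cfsg.Agent.Helper71

/-- Membership in a conjugate subgroup, written with `Subgroup.map (MulAut.conj g).toMonoidHom`. -/
theorem mem_map_conj {G : Type*} [Group G] (H : Subgroup G) (g x : G) :
    x ∈ H.map (MulAut.conj g).toMonoidHom ↔ g⁻¹ * x * g ∈ H := by
  constructor
  · rintro ⟨y, hy, rfl⟩
    have e : g⁻¹ * ((MulAut.conj g).toMonoidHom y) * g = y := by
      simp [MulAut.conj_apply, mul_assoc]
    rw [e]; exact hy
  · intro h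
    exact ⟨g⁻¹ * x * g, h, by simp [MulAut.conj_apply, mul_assoc]⟩

theorem conj_mem_map_conj {G : Type*} [Group G] (H : Subgroup G) (g : G) {x : G} (hx : x ∈ H) :
    g * x * g⁻¹ ∈ H.map (MulAut.conj g).toMonoidHom := by
  rw [mem_map_conj]
  have e : g⁻¹ * (g * x * g⁻¹) * g = x := by group
  rw [e]; exact hx

/-- Conjugating a subgroup by one of its elements does nothing. -/
theorem map_conj_eq_self_of_mem {G : Type*} [Group G] (H : Subgroup G) {g : G} (hg : g ∈ H) :
    H.map (MulAut.conj g).toMonoidHom = H := by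
  ext x
  rw [mem_map_conj]
  constructor
  · intro h
    have := H.mul_mem (H.mul_mem hg h) (H.inv_mem hg)
    simpa [mul_assoc] using this
  · intro h
    exact H.mul_mem (H.mul_mem (H.inv_mem hg) h) hg

theorem map_conj_mul {G : Type*} [Group G] (H : Subgroup G) (a b : G) :
    H.map (MulAut.conj (a * b)).toMonoidHom =
      (H.map (MulAut.conj b).toMonoidHom).map (MulAut.conj a).toMonoidHom := by
  ext x
  simp only [mem_map_conj]
  have e : (a * b)⁻¹ * x * (a * b) = b⁻¹ * (a⁻¹ * x * a) * b := by group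
  rw [e]

/-- Conjugating by a normalizing element does nothing. -/
theorem map_conj_eq_self_of_mem_normalizer {G : Type*} [Group G] (H : Subgroup G) {g : G}
    (hg : g ∈ Subgroup.normalizer (H : Set G)) : H.map (MulAut.conj g).toMonoidHom = H := by
  ext x
  rw [mem_map_conj]
  have hg' := Subgroup.inv_mem _ hg
  have := (Subgroup.mem_normalizer_iff.mp hg') x
  rw [inv_inv] at this
  exact this.symm

theorem mem_normalizer_of_map_conj_eq {G : Type*} [Group G] (H : Subgroup G) {a b : G}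
    (h : H.map (MulAut.conj a).toMonoidHom = H.map (MulAut.conj b).toMonoidHom) :
    b⁻¹ * a ∈ Subgroup.normalizer (H : Set G) := by
  rw [Subgroup.mem_normalizer_iff]
  intro y
  have h1 := SetLike.ext_iff.mp h (a * y * a⁻¹)
  rw [mem_map_conj, mem_map_conj] at h1
  have e1 : a⁻¹ * (a * y * a⁻¹) * a = y := by group
  have e2 : b⁻¹ * (a * y * a⁻¹) * b = b⁻¹ * a * y * (b⁻¹ * a)⁻¹ := by group
  rw [e1, e2] at h1
  exact h1

/-- If `A` normalizes `W` elementwise, every element of `W ⊔ A` is a product `w * a`. -/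
theorem exists_mul_of_mem_sup {G : Type*} [Group G] (W A : Subgroup G)
    (hnorm : ∀ a ∈ A, ∀ w ∈ W, a * w * a⁻¹ ∈ W) {x : G} (hx : x ∈ W ⊔ A) :
    ∃ w ∈ W, ∃ a ∈ A, x = w * a := by
  rw [Subgroup.sup_eq_closure] at hx
  induction hx using Subgroup.closure_induction with
  | mem y hy =>
    rcases hy with hy | hy
    · exact ⟨y, hy, 1, A.one_mem, by simp⟩
    · exact ⟨1, W.one_mem, y, hy, by simp⟩
  | one => exact ⟨1, W.one_mem, 1, A.one_mem, by simp⟩
  | mul y z _ _ hy hz =>
    obtain ⟨w1, hw1, a1, ha1, rfl⟩ := hy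
    obtain ⟨w2, hw2, a2, ha2, rfl⟩ := hz
    exact ⟨w1 * (a1 * w2 * a1⁻¹), W.mul_mem hw1 (hnorm a1 ha1 w2 hw2), a1 * a2,
      A.mul_mem ha1 ha2, by group⟩
  | inv y _ hy =>
    obtain ⟨w, hw, a, ha, rfl⟩ := hy
    exact ⟨a⁻¹ * w⁻¹ * a⁻¹⁻¹, hnorm a⁻¹ (A.inv_mem ha) w⁻¹ (W.inv_mem hw), a⁻¹, A.inv_mem ha,
      by group⟩

end Cfsg.Agent.Helper71
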