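import Mathlib

set_option autoImplicit false

namespace Cfsg.Agent.Helper71

section PointSylow

variable {Γ : Type*} [Group Γ] {Ω : Type*} [MulAction Γ Ω]

/-- The orbit of a point under a subgroup, written without subtypes. -/
def porbit (P : Subgroup Γ) (γ : Ω) : Set Ω := {ω | ∃ g ∈ P, g • γ = ω}

theorem porbit_eq_orbit (P : Subgroup Γ) (γ : Ω) : porbit P γ = MulAction.orbit ↥P γ := by
  ext ω
  constructor
  · rintro ⟨g, hg, rfl⟩
    exact ⟨⟨g, hg⟩, rfl⟩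
  · rintro ⟨g, rfl⟩
    exact ⟨g.1, g.2, rfl⟩

theorem mem_porbit_self (P : Subgroup Γ) (γ : Ω) : γ ∈ porbit P γ :=
  ⟨1, P.one_mem, one_smul _ _⟩

theorem smul_mem_porbit (P : Subgroup Γ) {γ ω : Ω} {g : Γ} (hg : g ∈ P)
    (hω : ω ∈ porbit P γ) : g • ω ∈ porbit P γ := by
  obtain ⟨h, hh, rfl⟩ := hω
  exact ⟨g * h, P.mul_mem hg hh, mul_smul _ _ _⟩

theorem mem_porbit_symm (P : Subgroup Γ) {γ ω : Ω} (hω : ω ∈ porbit P γ) : γ ∈ porbit P ω := by
  obtain ⟨h, hh, rfl⟩ := hω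
  exact ⟨h⁻¹, P.inv_mem hh, inv_smul_smul _ _⟩

theorem mem_porbit_trans (P : Subgroup Γ) {γ ω ξ : Ω} (h1 : ω ∈ porbit P γ)
    (h2 : ξ ∈ porbit P ω) : ξ ∈ porbit P γ := by
  obtain ⟨h, hh, rfl⟩ := h2
  exact smul_mem_porbit P hh h1

/-- `P` is a Sylow subgroup attached to the point `α`: it fixes `α` and no other point, and
the stabilizer of `α` normalizes it. -/
def IsPointSylow {p : ℕ} (P : Sylow p Γ) (α : Ω) : Prop :=
  (∀ g ∈ (P : Subgroup Γ), g • α = α) ∧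
  (∀ γ : Ω, (∀ g ∈ (P : Subgroup Γ), g • γ = γ) → γ = α) ∧
  MulAction.stabilizer Γ α ≤ Subgroup.normalizer ((P : Subgroup Γ) : Set Γ)

theorem IsPointSylow.normalizer_le {p : ℕ} {P : Sylow p Γ} {α : Ω} (h : IsPointSylow P α) :
    Subgroup.normalizer ((P : Subgroup Γ) : Set Γ) ≤ MulAction.stabilizer Γ α := by
  intro g hg
  rw [MulAction.mem_stabilizer_iff]
  apply h.2.1
  intro k hk
  have h1 : g⁻¹ * k * g ∈ (P : Subgroup Γ) := by
    have := (Subgroup.mem_normalizer_iff.mp (Subgroup.inv_mem _ hg) k).mp hk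
    simpa using this
  have h2 := h.1 _ h1
  calc k • g • α = g • (g⁻¹ * k * g) • α := by
        rw [← mul_smul, ← mul_smul]; congr 1; group
    _ = g • α := by rw [h2]

theorem IsPointSylow.smul_eq_of_mem_normalizer {p : ℕ} {P : Sylow p Γ} {α : Ω}
    (h : IsPointSylow P α) {g : Γ}
    (hg : g ∈ Subgroup.normalizer ((P : Subgroup Γ) : Set Γ)) : g • α = α :=
  MulAction.mem_stabilizer_iff.mp (h.normalizer_le hg)

/-- A `p`-element fixing `α` lies in `P`. -/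
theorem IsPointSylow.mem_of_pow {p : ℕ} [Fact p.Prime] {P : Sylow p Γ} {α : Ω}
    (h : IsPointSylow P α) {g : Γ} (hg : g • α = α) {k : ℕ} (hk : g ^ p ^ k = 1) :
    g ∈ (P : Subgroup Γ) := by
  have hz : IsPGroup p (Subgroup.zpowers g) := by
    rintro ⟨x, hx⟩
    refine ⟨k, ?_⟩
    obtain ⟨i, rfl⟩ := Subgroup.mem_zpowers_iff.mp hx
    apply Subtype.ext
    simp only [Subgroup.coe_pow, Subgroup.coe_one]
    rw [← zpow_natCast, ← zpow_mul, mul_comm, zpow_mul, zpow_natCast, hk, one_zpow]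
  have h1 := hz.inf_normalizer_sylow P
  have h2 : g ∈ Subgroup.zpowers g ⊓ Subgroup.normalizer ((P : Subgroup Γ) : Set Γ) :=
    ⟨Subgroup.mem_zpowers g, h.2.2 (MulAction.mem_stabilizer_iff.mpr hg)⟩
  have h3 : g ∈ Subgroup.zpowers g ⊓ (P : Subgroup Γ) := by
    rw [← h1]; exact h2
  exact h3.2

/-- An element of `P` fixing a point also fixes its whole `P`-orbit when `P` is commutative. -/
theorem smul_eq_of_mem_porbit_of_comm (P : Subgroup Γ)
    (hcomm : ∀ a ∈ P, ∀ b ∈ P, a * b = b * a) {g : Γ} (hg : g ∈ P) {γ ω : Ω} (hγ : g • γ = γ)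
    (hω : ω ∈ porbit P γ) : g • ω = ω := by
  obtain ⟨h, hh, rfl⟩ := hω
  rw [← mul_smul, hcomm g hg h hh, mul_smul, hγ]

/-- An element centralizing `P` and fixing a point fixes its whole `P`-orbit. -/
theorem smul_eq_of_mem_porbit_of_centralizes (P : Subgroup Γ) {c : Γ}
    (hc : ∀ a ∈ P, c * a = a * c) {γ ω : Ω} (hγ : c • γ = γ)
    (hω : ω ∈ porbit P γ) : c • ω = ω := by
  obtain ⟨h, hh, rfl⟩ := hω
  rw [← mul_smul, hc h hh, mul_smul, hγ]

theorem IsPointSylow.not_mem_porbit {p : ℕ} {P : Sylow p Γ} {α : Ω} (h : IsPointSylow P α)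
    {γ : Ω} (hγ : γ ≠ α) : α ∉ porbit (P : Subgroup Γ) γ := by
  rintro ⟨g, hg, hgα⟩
  apply hγ
  have h1 := h.1 g⁻¹ (Subgroup.inv_mem _ hg)
  calc γ = g⁻¹ • g • γ := (inv_smul_smul _ _).symm
    _ = g⁻¹ • α := by rw [hgα]
    _ = α := h1

end PointSylow

section Fifteen

variable {Γ : Type*} [Group Γ] {Ω : Type*} [MulAction Γ Ω] [Finite Ω]

theorem IsPointSylow.ncard_porbit [Fact (Nat.Prime 7)] {P : Sylow 7 Γ} {α : Ω}
    (h : IsPointSylow P α) (hΩ : Nat.card Ω = 15) {γ : Ω} (hγ : γ ≠ α) :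
    (porbit (P : Subgroup Γ) γ).ncard = 7 := by
  rw [porbit_eq_orbit, ← Nat.card_coe_set_eq]
  obtain ⟨n, hn⟩ := P.isPGroup'.card_orbit γ
  have h0 : n ≠ 0 := by
    rintro rfl
    apply hγ
    apply h.2.1
    intro g hg
    have h1 : Nat.card (MulAction.orbit (↥(P : Subgroup Γ)) γ) = 1 := by simpa using hn
    rw [Nat.card_eq_one_iff_unique] at h1
    have h2 := h1.1.elim
      ⟨(⟨g, hg⟩ : ↥(P : Subgroup Γ)) • γ, MulAction.mem_orbit _ _⟩
      ⟨γ, MulAction.mem_orbit_self _⟩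
    exact congrArg Subtype.val h2
  have h1 : Nat.card (MulAction.orbit (↥(P : Subgroup Γ)) γ) ≤ 15 := by
    rw [← hΩ]; exact Nat.card_le_card_of_injective _ Subtype.val_injective
  have h2 : n < 2 := by
    by_contra hcon
    push Not at hcon
    have : 7 ^ 2 ≤ 7 ^ n := Nat.pow_le_pow_right (by norm_num) hcon
    omega
  interval_cases n
  · exact absurd rfl h0
  · simpa using hn

/-- The orbit decomposition `Ω = {α} ⊔ O₁ ⊔ O₂`. -/
theorem IsPointSylow.exists_decomp [Fact (Nat.Prime 7)] {P : Sylow 7 Γ} {α : Ω}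
    (h : IsPointSylow P α) (hΩ : Nat.card Ω = 15) {β₁ : Ω} (hβ₁ : β₁ ≠ α) :
    ∃ β₂ : Ω, β₂ ≠ α ∧ β₂ ∉ porbit (P : Subgroup Γ) β₁ ∧
      ∀ ω : Ω, ω = α ∨ ω ∈ porbit (P : Subgroup Γ) β₁ ∨ ω ∈ porbit (P : Subgroup Γ) β₂ := by
  have hc1 := h.ncard_porbit hΩ hβ₁
  have hex : ∃ β₂, β₂ ∉ ({α} ∪ porbit (P : Subgroup Γ) β₁ : Set Ω) := by
    by_contra hcon
    push Not at hcon
    have huniv : ({α} ∪ porbit (P : Subgroup Γ) β₁ : Set Ω) = Set.univ :=
      Set.eq_univ_of_forall hcon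
    have h1 : ({α} ∪ porbit (P : Subgroup Γ) β₁ : Set Ω).ncard ≤ 1 + 7 := by
      calc _ ≤ ({α} : Set Ω).ncard + (porbit (P : Subgroup Γ) β₁).ncard :=
            Set.ncard_union_le _ _
        _ = 1 + 7 := by rw [Set.ncard_singleton, hc1]
    rw [huniv, Set.ncard_univ, hΩ] at h1
    omega
  obtain ⟨β₂, hβ₂⟩ := hex
  have hβ₂α : β₂ ≠ α := fun e => hβ₂ (Or.inl e)
  have hβ₂1 : β₂ ∉ porbit (P : Subgroup Γ) β₁ := fun e => hβ₂ (Or.inr e)
  refine ⟨β₂, hβ₂α, hβ₂1, ?_⟩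
  have hc2 := h.ncard_porbit hΩ hβ₂α
  have hdisj : Disjoint (porbit (P : Subgroup Γ) β₁) (porbit (P : Subgroup Γ) β₂) := by
    rw [Set.disjoint_left]
    intro ω h1 h2
    exact hβ₂1 (mem_porbit_trans _ h1 (mem_porbit_symm _ h2))
  have hdisj2 : Disjoint ({α} : Set Ω)
      (porbit (P : Subgroup Γ) β₁ ∪ porbit (P : Subgroup Γ) β₂) := by
    rw [Set.disjoint_singleton_left]
    rintro (h1 | h1)
    · exact h.not_mem_porbit hβ₁ h1
    · exact h.not_mem_porbit hβ₂α h1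
  have hcard : ({α} ∪ (porbit (P : Subgroup Γ) β₁ ∪ porbit (P : Subgroup Γ) β₂) :
      Set Ω).ncard = 15 := by
    rw [Set.ncard_union_eq hdisj2 (Set.toFinite _) (Set.toFinite _),
      Set.ncard_union_eq hdisj (Set.toFinite _) (Set.toFinite _), Set.ncard_singleton, hc1, hc2]
  have huniv : ({α} ∪ (porbit (P : Subgroup Γ) β₁ ∪ porbit (P : Subgroup Γ) β₂) : Set Ω) =
      Set.univ := by
    rw [Set.eq_univ_iff_ncard, hcard, hΩ]
  intro ω
  have hω := Set.mem_univ ω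
  rw [← huniv] at hω
  simpa using hω

end Fifteen

end Cfsg.Agent.Helper71
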