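import Mathlib
import Cfsg.Prelude.Def_HallClasses
import Cfsg.Agent.Helper71.Conj

set_option autoImplicit false

namespace Cfsg.Agent.Helper71

/-- Images of conjugates are conjugates of images. -/
theorem map_map_conj {Γ Δ : Type*} [Group Γ] [Group Δ] (f : Γ →* Δ) (H : Subgroup Γ) (g : Γ) :
    (H.map (MulAut.conj g).toMonoidHom).map f =
      (H.map f).map (MulAut.conj (f g)).toMonoidHom := by
  rw [Subgroup.map_map, Subgroup.map_map]
  congr 1
  ext x
  simp [MulAut.conj_apply]

theorem mem_normalizer_iff_map_conj {Γ : Type*} [Group Γ] (H : Subgroup Γ) (g : Γ) :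
    g ∈ Subgroup.normalizer (H : Set Γ) ↔ H.map (MulAut.conj g).toMonoidHom = H := by
  constructor
  · exact map_conj_eq_self_of_mem_normalizer H
  · intro h
    have h1 : H.map (MulAut.conj g).toMonoidHom = H.map (MulAut.conj (1 : Γ)).toMonoidHom := by
      rw [h, map_conj_eq_self_of_mem H H.one_mem]
    have h2 := mem_normalizer_of_map_conj_eq H h1
    simpa using h2

/-- The image of a pronormal subgroup satisfies the pronormality condition for all elements of
the image of the ambient group. -/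
theorem isPronormal_map_apply {Γ Δ : Type*} [Group Γ] [Group Δ] (f : Γ →* Δ) {H : Subgroup Γ}
    (h : Cfsg.IsPronormal H) (g : Γ) :
    ∃ y ∈ H.map f ⊔ (H.map f).map (MulAut.conj (f g)).toMonoidHom,
      (H.map f).map (MulAut.conj (f g)).toMonoidHom =
        (H.map f).map (MulAut.conj y).toMonoidHom := by
  obtain ⟨x, hx, heq⟩ := h g
  refine ⟨f x, ?_, ?_⟩
  · rw [← map_map_conj, ← Subgroup.map_sup]
    exact Subgroup.mem_map_of_mem f hx
  · rw [← map_map_conj, ← map_map_conj, heq]

theorem isPronormal_map_of_surjective {Γ Δ : Type*} [Group Γ] [Group Δ] (f : Γ →* Δ)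
    (hf : Function.Surjective f) {H : Subgroup Γ} (h : Cfsg.IsPronormal H) :
    Cfsg.IsPronormal (H.map f) := by
  intro g'
  obtain ⟨g, rfl⟩ := hf g'
  exact isPronormal_map_apply f h g

/-- Pronormality lifts along a homomorphism whose kernel lies in the subgroup. -/
theorem isPronormal_of_map {Γ Δ : Type*} [Group Γ] [Group Δ] (f : Γ →* Δ) {H : Subgroup Γ}
    (hker : f.ker ≤ H) (h : Cfsg.IsPronormal (H.map f)) : Cfsg.IsPronormal H := by
  intro g
  obtain ⟨y, hy, heq⟩ := h (f g)
  rw [← map_map_conj, ← Subgroup.map_sup] at hy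
  obtain ⟨x, hx, rfl⟩ := hy
  refine ⟨x, hx, ?_⟩
  rw [← map_map_conj, ← map_map_conj] at heq
  have hk : ∀ z : Γ, f.ker ≤ H.map (MulAut.conj z).toMonoidHom := by
    intro z k hk
    rw [mem_map_conj]
    apply hker
    rw [MonoidHom.mem_ker] at hk ⊢
    simp [hk]
  have h1 := congrArg (Subgroup.comap f) heq
  rw [Subgroup.comap_map_eq, Subgroup.comap_map_eq, sup_eq_left.mpr (hk g),
    sup_eq_left.mpr (hk x)] at h1
  exact h1

theorem isPronormal_map_conj {Γ : Type*} [Group Γ] {H : Subgroup Γ} (h : Cfsg.IsPronormal H)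
    (a : Γ) : Cfsg.IsPronormal (H.map (MulAut.conj a).toMonoidHom) :=
  isPronormal_map_of_surjective _ (MulAut.conj a).surjective h

/-- Reduction step: if `a = b * c` with `b ∈ ⟨H, H^a⟩` and `H^c` is conjugate to `H` inside
`⟨H, H^c⟩`, then `H^a` is conjugate to `H` inside `⟨H, H^a⟩`. -/
theorem exists_conj_of_mul {Γ : Type*} [Group Γ] (H : Subgroup Γ) {a b c : Γ} (habc : a = b * c)
    (hb : b ∈ H ⊔ H.map (MulAut.conj a).toMonoidHom)
    (hc : ∃ w ∈ H ⊔ H.map (MulAut.conj c).toMonoidHom,
      H.map (MulAut.conj c).toMonoidHom = H.map (MulAut.conj w).toMonoidHom) :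
    ∃ w ∈ H ⊔ H.map (MulAut.conj a).toMonoidHom,
      H.map (MulAut.conj a).toMonoidHom = H.map (MulAut.conj w).toMonoidHom := by
  obtain ⟨w, hw, heq⟩ := hc
  refine ⟨b * w, ?_, ?_⟩
  · apply Subgroup.mul_mem _ hb
    have hle : H ⊔ H.map (MulAut.conj c).toMonoidHom ≤ H ⊔ H.map (MulAut.conj a).toMonoidHom := by
      apply sup_le le_sup_left
      intro y hy
      rw [mem_map_conj] at hy
      have h1 : b * y * b⁻¹ ∈ H.map (MulAut.conj a).toMonoidHom := by
        rw [mem_map_conj, habc]
        have e : (b * c)⁻¹ * (b * y * b⁻¹) * (b * c) = c⁻¹ * y * c := by group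
        rw [e]; exact hy
      have h2 : b * y * b⁻¹ ∈ H ⊔ H.map (MulAut.conj a).toMonoidHom :=
        (le_sup_right : _ ≤ H ⊔ H.map (MulAut.conj a).toMonoidHom) h1
      have e : y = b⁻¹ * (b * y * b⁻¹) * b := by group
      rw [e]
      exact Subgroup.mul_mem _ (Subgroup.mul_mem _ (Subgroup.inv_mem _ hb) h2) hb
    exact hle hw
  · rw [habc, map_conj_mul, heq, ← map_conj_mul]

theorem map_conj_inf_normal {G : Type*} [Group G] (H A : Subgroup G) [A.Normal] {h : G}
    (hh : h ∈ H) : (H ⊓ A).map (MulAut.conj h).toMonoidHom = H ⊓ A := by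
  ext x
  rw [mem_map_conj, Subgroup.mem_inf, Subgroup.mem_inf]
  constructor
  · rintro ⟨h1, h2⟩
    refine ⟨?_, ?_⟩
    · have := H.mul_mem (H.mul_mem hh h1) (H.inv_mem hh)
      simpa [mul_assoc] using this
    · have := Subgroup.Normal.conj_mem ‹A.Normal› _ h2 h
      simpa [mul_assoc] using this
  · rintro ⟨h1, h2⟩
    refine ⟨H.mul_mem (H.mul_mem (H.inv_mem hh) h1) hh, ?_⟩
    have := Subgroup.Normal.conj_mem ‹A.Normal› _ h2 h⁻¹
    simpa [mul_assoc] using this

theorem sylow_smul_coe {G : Type*} [Group G] {p : ℕ} (g : G) (P : Sylow p G) :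
    ((g • P : Sylow p G) : Subgroup G) = (P : Subgroup G).map (MulAut.conj g).toMonoidHom := by
  ext x
  rw [Sylow.coe_subgroup_smul, mem_map_conj, Subgroup.mem_pointwise_smul_iff_inv_smul_mem]
  simp [MulAut.smul_def]

/-- Sylow conjugacy inside a subgroup `B`: a maximal `p`-subgroup `P` of `B` is `B`-conjugate
to every `p`-subgroup of `B` of at least the same order. -/
theorem exists_conj_eq_of_maximal_pgroup {G : Type*} [Group G] [Finite G] {p : ℕ}
    [Fact p.Prime] (B P Q : Subgroup G) (hPB : P ≤ B) (hQB : Q ≤ B) (hP : IsPGroup p P)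
    (hQ : IsPGroup p Q) (hcard : Nat.card P ≤ Nat.card Q)
    (hmax : ∀ R : Subgroup G, IsPGroup p R → R ≤ B → P ≤ R → R = P) :
    ∃ d ∈ B, Q = P.map (MulAut.conj d).toMonoidHom := by
  let P' : Sylow p B :=
    { toSubgroup := P.subgroupOf B
      isPGroup' := hP.comap_of_injective B.subtype B.subtype_injective
      is_maximal' := by
        intro R hR hle
        have h1 : R.map B.subtype = P := hmax _ (hR.map B.subtype) (Subgroup.map_subtype_le R) (by
          rw [← Subgroup.map_subgroupOf_eq_of_le hPB]; exact Subgroup.map_mono hle)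
        rw [← h1]
        exact (Subgroup.comap_map_eq_self_of_injective B.subtype_injective R).symm }
  obtain ⟨S, hS⟩ := (hQ.comap_of_injective B.subtype B.subtype_injective).exists_le_sylow
  obtain ⟨b, hb⟩ := MulAction.exists_smul_eq B P' S
  refine ⟨b, b.2, ?_⟩
  have hle : Q ≤ P.map (MulAut.conj (b : G)).toMonoidHom := by
    intro q hq
    have h1 : (⟨q, hQB hq⟩ : B) ∈ (S : Subgroup B) := hS (by exact hq)
    rw [← hb, sylow_smul_coe, mem_map_conj] at h1
    rw [mem_map_conj]
    exact h1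
  exact Subgroup.eq_of_le_of_card_ge hle (by
    rw [Subgroup.card_map_of_injective (MulAut.conj (b : G)).injective]; exact hcard)

/-- Facts about the image `T` in `G` of a Sylow `p`-subgroup of a subgroup `A`:
it is a maximal `p`-subgroup of `A`. -/
theorem eq_of_sylow_map_le {G : Type*} [Group G] {p : ℕ} (A : Subgroup G) (P₀ : Sylow p ↥A)
    (T : Subgroup G) (hT : (P₀ : Subgroup ↥A).map A.subtype = T) (R : Subgroup G)
    (hR : IsPGroup p R) (hRA : R ≤ A) (hTR : T ≤ R) : R = T := by
  have h1 : R.subgroupOf A = P₀ :=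
    P₀.is_maximal' (hR.comap_of_injective A.subtype A.subtype_injective) (by
      intro x hx
      rw [Subgroup.mem_subgroupOf]
      apply hTR
      rw [← hT]
      exact Subgroup.mem_map_of_mem _ hx)
  rw [← hT, ← h1, Subgroup.map_subgroupOf_eq_of_le hRA]

/-- A Sylow `p`-subgroup of `G` containing a Sylow `p`-subgroup `T` of the normal subgroup `A`
normalizes `T`. -/
theorem sylow_le_normalizer_of_le {G : Type*} [Group G] {p : ℕ} (A : Subgroup G) [A.Normal]
    (P₀ : Sylow p ↥A) (T : Subgroup G) (hT : (P₀ : Subgroup ↥A).map A.subtype = T)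
    (P : Sylow p G) (hTP : T ≤ P) : (P : Subgroup G) ≤ Subgroup.normalizer (T : Set G) := by
  have hTA : T ≤ A := by rw [← hT]; exact Subgroup.map_subtype_le _
  have h1 : (P : Subgroup G) ⊓ A = T :=
    eq_of_sylow_map_le A P₀ T hT _ (P.isPGroup'.to_le inf_le_left) inf_le_right (le_inf hTP hTA)
  intro x hx
  rw [mem_normalizer_iff_map_conj, ← h1]
  exact map_conj_inf_normal _ A hx

/-- Core lemma for pronormality in extensions. -/
theorem exists_conj_of_mem_normal {G : Type*} [Group G] [Finite G] {p : ℕ} [Fact p.Prime]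
    (A : Subgroup G) [A.Normal]
    (hA : ∀ K : Subgroup ↥A, (∃ P : Sylow p ↥A, (P : Subgroup ↥A) ≤ K) → Cfsg.IsPronormal K)
    (P₀ : Sylow p ↥A) (T : Subgroup G) (hT : (P₀ : Subgroup ↥A).map A.subtype = T)
    (H : Subgroup G) (hTH : T ≤ H)
    (hY : ∀ e ∈ Subgroup.normalizer (T : Set G),
      ∃ y ∈ (H ⊓ Subgroup.normalizer (T : Set G)) ⊔
          (H ⊓ Subgroup.normalizer (T : Set G)).map (MulAut.conj e).toMonoidHom,
        (H ⊓ Subgroup.normalizer (T : Set G)).map (MulAut.conj e).toMonoidHom =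
          (H ⊓ Subgroup.normalizer (T : Set G)).map (MulAut.conj y).toMonoidHom)
    (a : G) (ha : a ∈ A) :
    ∃ w ∈ H ⊔ H.map (MulAut.conj a).toMonoidHom,
      H.map (MulAut.conj a).toMonoidHom = H.map (MulAut.conj w).toMonoidHom := by
  have hTA : T ≤ A := by rw [← hT]; exact Subgroup.map_subtype_le _
  have hTp : IsPGroup p T := by rw [← hT]; exact P₀.isPGroup'.map A.subtype
  have hTmax : ∀ R : Subgroup G, IsPGroup p R → R ≤ A → T ≤ R → R = T :=
    eq_of_sylow_map_le A P₀ T hT
  have hBpro : Cfsg.IsPronormal (H.subgroupOf A) := hA _ ⟨P₀, by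
    intro x hx
    rw [Subgroup.mem_subgroupOf]
    apply hTH; rw [← hT]; exact Subgroup.mem_map_of_mem _ hx⟩
  obtain ⟨b, hb, hbeq⟩ := isPronormal_map_apply A.subtype hBpro ⟨a, ha⟩
  rw [Subgroup.subgroupOf_map_subtype] at hb hbeq
  simp only [Subgroup.coe_subtype] at hb hbeq
  obtain ⟨B, hB⟩ : ∃ B : Subgroup G, B = H ⊓ A := ⟨_, rfl⟩
  rw [← hB] at hb hbeq
  have hBH : B ≤ H := by rw [hB]; exact inf_le_left
  have hBA : B ≤ A := by rw [hB]; exact inf_le_right
  have hTB : T ≤ B := by rw [hB]; exact le_inf hTH hTA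
  have hHB : ∀ h ∈ H, B.map (MulAut.conj h).toMonoidHom = B := by
    intro h hh
    rw [hB]; exact map_conj_inf_normal H A hh
  have hcjA : ∀ g : G, B.map (MulAut.conj g).toMonoidHom ≤ A := by
    intro g x hx
    rw [mem_map_conj] at hx
    have := Subgroup.Normal.conj_mem ‹A.Normal› _ (hBA hx) g
    simpa [mul_assoc] using this
  have hbA : b ∈ A := (sup_le hBA (hcjA a)) hb
  have hbH : b ∈ H ⊔ H.map (MulAut.conj a).toMonoidHom :=
    (sup_le_sup hBH (Subgroup.map_mono hBH)) hb
  -- reduce to `c = b⁻¹ * a`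
  apply exists_conj_of_mul H (show a = b * (b⁻¹ * a) by group) hbH
  have hcN : b⁻¹ * a ∈ Subgroup.normalizer (B : Set G) := mem_normalizer_of_map_conj_eq B hbeq
  generalize b⁻¹ * a = c at hcN
  have hcB : B.map (MulAut.conj c).toMonoidHom = B := map_conj_eq_self_of_mem_normalizer B hcN
  -- Sylow conjugacy inside `B`
  have hSyl : ∀ g : G, B.map (MulAut.conj g).toMonoidHom = B →
      ∃ d ∈ B, T.map (MulAut.conj g).toMonoidHom = T.map (MulAut.conj d).toMonoidHom := by
    intro g hg
    exact exists_conj_eq_of_maximal_pgroup B T _ hTB (by rw [← hg]; exact Subgroup.map_mono hTB)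
      hTp (hTp.map _) (by rw [Subgroup.card_map_of_injective (MulAut.conj g).injective])
      (fun R hR hRB hTR => hTmax R hR (hRB.trans hBA) hTR)
  obtain ⟨d, hd, hdeq⟩ := hSyl c hcB
  have hdH : d ∈ H ⊔ H.map (MulAut.conj c).toMonoidHom :=
    (le_sup_left : H ≤ H ⊔ H.map (MulAut.conj c).toMonoidHom) (hBH hd)
  apply exists_conj_of_mul H (show c = d * (d⁻¹ * c) by group) hdH
  have heT : d⁻¹ * c ∈ Subgroup.normalizer (T : Set G) := mem_normalizer_of_map_conj_eq T hdeq
  have heB : d⁻¹ * c ∈ Subgroup.normalizer (B : Set G) :=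
    Subgroup.mul_mem _ (Subgroup.inv_mem _ (Subgroup.le_normalizer hd)) hcN
  generalize d⁻¹ * c = e at heT heB
  -- Frattini argument
  obtain ⟨H₀, hH₀⟩ : ∃ H₀ : Subgroup G, H₀ = H ⊓ Subgroup.normalizer (T : Set G) := ⟨_, rfl⟩
  rw [← hH₀] at hY
  have hH₀H : H₀ ≤ H := by rw [hH₀]; exact inf_le_left
  have hHsup : H = B ⊔ H₀ := by
    apply le_antisymm
    · intro h hh
      obtain ⟨d', hd', hd'eq⟩ := hSyl h (hHB h hh)
      have h1 : d'⁻¹ * h ∈ Subgroup.normalizer (T : Set G) :=
        mem_normalizer_of_map_conj_eq T hd'eq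
      have h2 : d'⁻¹ * h ∈ H := H.mul_mem (H.inv_mem (hBH hd')) hh
      have e : h = d' * (d'⁻¹ * h) := by group
      rw [e]
      exact Subgroup.mul_mem_sup hd' (by rw [hH₀]; exact ⟨h2, h1⟩)
    · exact sup_le hBH hH₀H
  obtain ⟨y, hy, hyeq⟩ := hY e heT
  have hHN : H ≤ Subgroup.normalizer (B : Set G) := by
    intro h hh
    rw [mem_normalizer_iff_map_conj]
    exact hHB h hh
  have hyN : y ∈ Subgroup.normalizer (B : Set G) := by
    have hle : H₀ ⊔ H₀.map (MulAut.conj e).toMonoidHom ≤ Subgroup.normalizer (B : Set G) := by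
      apply sup_le (hH₀H.trans hHN)
      intro z hz
      rw [mem_map_conj] at hz
      have h1 : e⁻¹ * z * e ∈ Subgroup.normalizer (B : Set G) := hHN (hH₀H hz)
      have e1 : z = e * (e⁻¹ * z * e) * e⁻¹ := by group
      rw [e1]
      exact Subgroup.mul_mem _ (Subgroup.mul_mem _ heB h1) (Subgroup.inv_mem _ heB)
    exact hle hy
  refine ⟨y, (sup_le_sup hH₀H (Subgroup.map_mono hH₀H)) hy, ?_⟩
  have heB' := map_conj_eq_self_of_mem_normalizer B heB
  have hyB' := map_conj_eq_self_of_mem_normalizer B hyN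
  rw [hHsup, Subgroup.map_sup, Subgroup.map_sup, heB', hyB', hyeq]

/-- To show that all overgroups of Sylow `p`-subgroups are pronormal it suffices to treat the
Sylow subgroups that contain a given `p`-subgroup `T`. -/
theorem isPronormal_of_forall_sylow_ge {G : Type*} [Group G] [Finite G] {p : ℕ} [Fact p.Prime]
    (T : Subgroup G) (hTp : IsPGroup p T)
    (h : ∀ (K : Subgroup G) (P : Sylow p G), T ≤ P → (P : Subgroup G) ≤ K → Cfsg.IsPronormal K)
    (K : Subgroup G) (hK : ∃ P : Sylow p G, (P : Subgroup G) ≤ K) : Cfsg.IsPronormal K := by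
  obtain ⟨P, hPK⟩ := hK
  obtain ⟨S, hS⟩ := hTp.exists_le_sylow
  obtain ⟨g, hg⟩ := MulAction.exists_smul_eq G P S
  have h1 : Cfsg.IsPronormal (K.map (MulAut.conj g).toMonoidHom) := by
    apply h _ S hS
    rw [← hg, sylow_smul_coe]
    exact Subgroup.map_mono hPK
  have h2 := isPronormal_map_conj h1 g⁻¹
  rw [← map_conj_mul, inv_mul_cancel, map_conj_eq_self_of_mem K K.one_mem] at h2
  exact h2

/-- The pronormality condition for `K ⊓ N_G(T)` and elements of `N_G(T)`, deduced from
pronormality of overgroups of Sylow subgroups in `N_G(T)/T`. -/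
theorem exists_conj_inf_normalizer {G : Type*} [Group G] [Finite G] {p : ℕ} [Fact p.Prime]
    (T : Subgroup G) [(T.subgroupOf (Subgroup.normalizer (T : Set G))).Normal]
    (hYT : ∀ K : Subgroup (↥(Subgroup.normalizer (T : Set G)) ⧸
        T.subgroupOf (Subgroup.normalizer (T : Set G))),
      (∃ P : Sylow p (↥(Subgroup.normalizer (T : Set G)) ⧸
        T.subgroupOf (Subgroup.normalizer (T : Set G))),
        (P : Subgroup (↥(Subgroup.normalizer (T : Set G)) ⧸
          T.subgroupOf (Subgroup.normalizer (T : Set G)))) ≤ K) → Cfsg.IsPronormal K)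
    (K : Subgroup G) (P : Sylow p G) (hTK : T ≤ K) (hPK : (P : Subgroup G) ≤ K)
    (hPY : (P : Subgroup G) ≤ Subgroup.normalizer (T : Set G)) :
    ∀ e ∈ Subgroup.normalizer (T : Set G),
      ∃ y ∈ (K ⊓ Subgroup.normalizer (T : Set G)) ⊔
          (K ⊓ Subgroup.normalizer (T : Set G)).map (MulAut.conj e).toMonoidHom,
        (K ⊓ Subgroup.normalizer (T : Set G)).map (MulAut.conj e).toMonoidHom =
          (K ⊓ Subgroup.normalizer (T : Set G)).map (MulAut.conj y).toMonoidHom := by
  intro e he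
  have h1 : Cfsg.IsPronormal ((K.subgroupOf (Subgroup.normalizer (T : Set G))).map
      (QuotientGroup.mk' (T.subgroupOf (Subgroup.normalizer (T : Set G))))) := by
    apply hYT
    refine ⟨Sylow.mapSurjective (QuotientGroup.mk'_surjective _) (P.subtype hPY), ?_⟩
    rw [Sylow.coe_mapSurjective, Sylow.coe_subtype]
    apply Subgroup.map_mono
    intro x hx
    exact hPK hx
  have h2 : Cfsg.IsPronormal (K.subgroupOf (Subgroup.normalizer (T : Set G))) := by
    apply isPronormal_of_map _ _ h1
    rw [QuotientGroup.ker_mk']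
    intro x hx
    exact hTK hx
  have h3 := isPronormal_map_apply (Subgroup.normalizer (T : Set G)).subtype h2 ⟨e, he⟩
  rw [Subgroup.subgroupOf_map_subtype] at h3
  exact h3

/-- If all overgroups of Sylow `p`-subgroups of `G` are pronormal, the same holds in
`N_G(T)/T` for `T` a Sylow `p`-subgroup of a normal subgroup. -/
theorem isPronormal_quotient_normalizer {G : Type*} [Group G] [Finite G] {p : ℕ} [Fact p.Prime]
    (A : Subgroup G) [A.Normal] (P₀ : Sylow p ↥A) (T : Subgroup G)
    (hT : (P₀ : Subgroup ↥A).map A.subtype = T)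
    [(T.subgroupOf (Subgroup.normalizer (T : Set G))).Normal]
    (hall : ∀ K : Subgroup G, (∃ P : Sylow p G, (P : Subgroup G) ≤ K) → Cfsg.IsPronormal K)
    (K : Subgroup (↥(Subgroup.normalizer (T : Set G)) ⧸
        T.subgroupOf (Subgroup.normalizer (T : Set G))))
    (hK : ∃ P : Sylow p (↥(Subgroup.normalizer (T : Set G)) ⧸
        T.subgroupOf (Subgroup.normalizer (T : Set G))),
        (P : Subgroup (↥(Subgroup.normalizer (T : Set G)) ⧸
          T.subgroupOf (Subgroup.normalizer (T : Set G)))) ≤ K) : Cfsg.IsPronormal K := by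
  obtain ⟨Pbar, hPbar⟩ := hK
  have hTp : IsPGroup p T := by rw [← hT]; exact P₀.isPGroup'.map A.subtype
  have hTY : T ≤ Subgroup.normalizer (T : Set G) := Subgroup.le_normalizer
  -- the preimage of `Pbar` is a `p`-group
  have hR' : IsPGroup p ((Pbar : Subgroup _).comap
      (QuotientGroup.mk' (T.subgroupOf (Subgroup.normalizer (T : Set G))))) := by
    apply Pbar.isPGroup'.comap_of_ker_isPGroup
    rw [QuotientGroup.ker_mk']
    exact hTp.comap_of_injective _ (Subgroup.subtype_injective _)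
  obtain ⟨S₁, hS₁⟩ := (hR'.map (Subgroup.normalizer (T : Set G)).subtype).exists_le_sylow
  have hTS₁ : T ≤ S₁ := by
    refine le_trans ?_ hS₁
    intro t ht
    refine ⟨⟨t, hTY ht⟩, ?_, rfl⟩
    rw [SetLike.mem_coe, Subgroup.mem_comap]
    have : (QuotientGroup.mk' (T.subgroupOf (Subgroup.normalizer (T : Set G))))
        ⟨t, hTY ht⟩ = 1 := by
      rw [QuotientGroup.mk'_apply, QuotientGroup.eq_one_iff]
      exact ht
    rw [this]
    exact Subgroup.one_mem _
  have hS₁Y : (S₁ : Subgroup G) ≤ Subgroup.normalizer (T : Set G) :=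
    sylow_le_normalizer_of_le A P₀ T hT S₁ hTS₁
  -- the image of `S₁` in the quotient is `Pbar`
  have h1 : ((S₁ : Subgroup G).subgroupOf (Subgroup.normalizer (T : Set G))).map
      (QuotientGroup.mk' (T.subgroupOf (Subgroup.normalizer (T : Set G)))) = Pbar := by
    apply Pbar.is_maximal'
    · exact (S₁.isPGroup'.comap_of_injective _ (Subgroup.subtype_injective _)).map _
    · have h2 : (Pbar : Subgroup _) = ((Pbar : Subgroup _).comap
          (QuotientGroup.mk' (T.subgroupOf (Subgroup.normalizer (T : Set G))))).map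
          (QuotientGroup.mk' (T.subgroupOf (Subgroup.normalizer (T : Set G)))) :=
        (Subgroup.map_comap_eq_self_of_surjective (QuotientGroup.mk'_surjective _) _).symm
      rw [h2]
      apply Subgroup.map_mono
      intro x hx
      rw [Subgroup.mem_subgroupOf]
      exact hS₁ ⟨x, hx, rfl⟩
  have h3 : (S₁ : Subgroup G).subgroupOf (Subgroup.normalizer (T : Set G)) ≤
      K.comap (QuotientGroup.mk' (T.subgroupOf (Subgroup.normalizer (T : Set G)))) := by
    rw [← Subgroup.map_le_iff_le_comap, h1]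
    exact hPbar
  have h4 : Cfsg.IsPronormal ((K.comap
      (QuotientGroup.mk' (T.subgroupOf (Subgroup.normalizer (T : Set G))))).map
      (Subgroup.normalizer (T : Set G)).subtype) := by
    apply hall
    refine ⟨S₁, ?_⟩
    rw [← Subgroup.map_subgroupOf_eq_of_le hS₁Y]
    exact Subgroup.map_mono h3
  have h5 : Cfsg.IsPronormal (K.comap
      (QuotientGroup.mk' (T.subgroupOf (Subgroup.normalizer (T : Set G))))) := by
    apply isPronormal_of_map _ _ h4
    rw [Subgroup.ker_subtype]
    exact bot_le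
  have h6 := isPronormal_map_of_surjective _ (QuotientGroup.mk'_surjective
    (T.subgroupOf (Subgroup.normalizer (T : Set G)))) h5
  rw [Subgroup.map_comap_eq_self_of_surjective (QuotientGroup.mk'_surjective _)] at h6
  exact h6

end Cfsg.Agent.Helper71
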