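import Mathlib

/-!
# CALL SL2L, piece G4 (helper71): a fixed line
-/

set_option autoImplicit false

namespace Cfsg.Agent.Helper71

open Subgroup

universe u

variable {Γ : Type u} [Group Γ] [Finite Γ]

/-- PIECE G4 (fixed line): `⟨k⟩` of prime order `s` acts on the `p + 1` lines by `L ↦ k L k⁻¹`;
`s ∣ p - 1` and `s ≠ 2` give `s ∤ p + 1`, so there is a fixed line. -/
theorem sl2l_fixed_line {p s : ℕ} (hp : p.Prime) (hs : s.Prime) (hs2 : s ≠ 2) (hsp : s ∣ p - 1)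
    {P Z : Subgroup Γ}
    (hlines : Nat.card {L : Subgroup Γ // Z ≤ L ∧ L ≤ P ∧ Nat.card L = p ^ 2} = p + 1)
    {k : Γ} (hks : orderOf k = s) (hkP : ∀ a ∈ P, k * a * k⁻¹ ∈ P)
    (hkZ : ∀ z ∈ Z, k * z = z * k) :
    ∃ L : Subgroup Γ, Z ≤ L ∧ L ≤ P ∧ Nat.card L = p ^ 2 ∧ ∀ a ∈ L, k * a * k⁻¹ ∈ L := by
  classical
  have : Fact s.Prime := ⟨hs⟩
  have hinj : Function.Injective (MulAut.conj k).toMonoidHom := (MulAut.conj k).injective
  -- the map on lines
  let f : {L : Subgroup Γ // Z ≤ L ∧ L ≤ P ∧ Nat.card L = p ^ 2} →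
      {L : Subgroup Γ // Z ≤ L ∧ L ≤ P ∧ Nat.card L = p ^ 2} := fun L =>
    ⟨L.1.map (MulAut.conj k).toMonoidHom, by
      refine ⟨?_, ?_, ?_⟩
      · intro z hz
        refine ⟨z, L.2.1 hz, ?_⟩
        show k * z * k⁻¹ = z
        rw [hkZ z hz, mul_inv_cancel_right]
      · rintro _ ⟨a, ha, rfl⟩
        exact hkP a (L.2.2.1 ha)
      · rw [Subgroup.card_map_of_injective hinj]
        exact L.2.2.2⟩
  have hfinj : Function.Injective f := by
    intro L L' h
    apply Subtype.ext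
    exact Subgroup.map_injective hinj (congrArg Subtype.val h)
  have hfbij : Function.Bijective f := hfinj.bijective_of_finite
  let σ : Equiv.Perm {L : Subgroup Γ // Z ≤ L ∧ L ≤ P ∧ Nat.card L = p ^ 2} :=
    Equiv.ofBijective f hfbij
  have hσ : ∀ (n : ℕ) (L : {L : Subgroup Γ // Z ≤ L ∧ L ≤ P ∧ Nat.card L = p ^ 2}),
      ((σ ^ n) L).1 = L.1.map (MulAut.conj (k ^ n)).toMonoidHom := by
    intro n
    induction n with
    | zero =>
      intro L
      rw [pow_zero, pow_zero, Equiv.Perm.one_apply, map_one]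
      exact (Subgroup.map_id L.1).symm
    | succ n ih =>
      intro L
      rw [pow_succ' σ n, Equiv.Perm.mul_apply]
      show ((σ ^ n) L).1.map (MulAut.conj k).toMonoidHom = _
      rw [ih L, Subgroup.map_map, pow_succ' k n, map_mul]
      rfl
  have hσs : σ ^ s ^ 1 = 1 := by
    rw [pow_one]
    ext L : 1
    apply Subtype.ext
    rw [hσ s L, ← hks, pow_orderOf_eq_one, map_one, Equiv.Perm.one_apply]
    exact Subgroup.map_id L.1
  haveI : Fintype {L : Subgroup Γ // Z ≤ L ∧ L ≤ P ∧ Nat.card L = p ^ 2} := Fintype.ofFinite _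
  have hnd : ¬ s ∣ Fintype.card {L : Subgroup Γ // Z ≤ L ∧ L ≤ P ∧ Nat.card L = p ^ 2} := by
    rw [← Nat.card_eq_fintype_card, hlines]
    intro h
    have hp1 : 1 ≤ p := hp.one_lt.le
    have h2 : s ∣ (p + 1) - (p - 1) := Nat.dvd_sub h hsp
    have h3 : (p + 1) - (p - 1) = 2 := by omega
    rw [h3] at h2
    exact hs2 ((Nat.prime_dvd_prime_iff_eq hs Nat.prime_two).mp h2)
  obtain ⟨L, hL⟩ := Equiv.Perm.exists_fixed_point_of_prime hnd hσs
  refine ⟨L.1, L.2.1, L.2.2.1, L.2.2.2, ?_⟩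
  intro a ha
  have h1 : L.1.map (MulAut.conj k).toMonoidHom = L.1 := congrArg Subtype.val hL
  rw [← h1]
  exact ⟨a, ha, rfl⟩

end Cfsg.Agent.Helper71
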