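import Mathlib
import Cfsg.Agent.Helper71.PointSylow

set_option autoImplicit false

namespace Cfsg.Agent.Helper71

section

variable {Γ : Type*} [Group Γ] {Ω : Type*} [MulAction Γ Ω] [Finite Ω]

theorem IsPointSylow.exists_ne_one_fixing [Fact (Nat.Prime 7)] {P : Sylow 7 Γ} {α : Ω}
    (h : IsPointSylow P α) (hΩ : Nat.card Ω = 15) (hP : Nat.card (P : Subgroup Γ) = 49)
    {γ : Ω} (hγ : γ ≠ α) : ∃ x ∈ (P : Subgroup Γ), x ≠ 1 ∧ x • γ = γ := by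
  have h1 := MulAction.index_stabilizer (↥(P : Subgroup Γ)) γ
  rw [← porbit_eq_orbit, h.ncard_porbit hΩ hγ] at h1
  have h2 := Subgroup.card_mul_index (MulAction.stabilizer (↥(P : Subgroup Γ)) γ)
  rw [h1, hP] at h2
  have h3 : Nat.card (MulAction.stabilizer (↥(P : Subgroup Γ)) γ) = 7 := by omega
  have h4 : MulAction.stabilizer (↥(P : Subgroup Γ)) γ ≠ ⊥ := by
    intro e
    rw [e, Subgroup.card_bot] at h3
    omega
  obtain ⟨⟨x, hx⟩, hx1⟩ := Subgroup.ne_bot_iff_exists_ne_one.mp h4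
  refine ⟨x.1, x.2, ?_, ?_⟩
  · intro e
    apply hx1
    apply Subtype.ext
    apply Subtype.ext
    exact e
  · exact MulAction.mem_stabilizer_iff.mp hx

omit [Finite Ω] in
theorem exists_ne_of_card_fifteen (hΩ : Nat.card Ω = 15) (α : Ω) : ∃ β : Ω, β ≠ α := by
  by_contra hcon
  push Not at hcon
  have hs : Subsingleton Ω := ⟨fun a b => (hcon a).trans (hcon b).symm⟩
  have := Nat.card_eq_one_iff_unique.mpr ⟨hs, ⟨α⟩⟩
  omega

/-- Sylow `7`-subgroups of order `49` are impossible. -/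
theorem false_of_card_49 [Fact (Nat.Prime 7)] [FaithfulSMul Γ Ω] (hΩ : Nat.card Ω = 15)
    (hall : ∀ β : Ω, ∃ P : Sylow 7 Γ, IsPointSylow P β)
    (hcard : ∀ P : Sylow 7 Γ, Nat.card (P : Subgroup Γ) = 49) : False := by
  have hne : Nonempty Ω := by
    by_contra hcon
    rw [not_nonempty_iff] at hcon
    rw [Nat.card_of_isEmpty] at hΩ
    omega
  obtain ⟨α⟩ := hne
  obtain ⟨P, hP⟩ := hall α
  obtain ⟨β₁, hβ₁⟩ := exists_ne_of_card_fifteen hΩ α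
  obtain ⟨β₂, hβ₂α, hβ₂1, hdec⟩ := hP.exists_decomp hΩ hβ₁
  have hcomm : ∀ (Q : Sylow 7 Γ), ∀ a ∈ (Q : Subgroup Γ), ∀ b ∈ (Q : Subgroup Γ),
      a * b = b * a := by
    intro Q a ha b hb
    have h1 : IsMulCommutative ↥(Q : Subgroup Γ) :=
      IsPGroup.isMulCommutative_of_card_eq_prime_sq (p := 7) (by rw [hcard Q]; norm_num)
    have h2 := mul_comm' (⟨a, ha⟩ : ↥(Q : Subgroup Γ)) ⟨b, hb⟩
    exact congrArg Subtype.val h2
  have hpow : ∀ (S : Sylow 7 Γ), ∀ g ∈ (S : Subgroup Γ), g ^ 7 ^ 2 = 1 := by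
    intro S g hg
    have h1 : (⟨g, hg⟩ : ↥(S : Subgroup Γ)) ^ Nat.card (S : Subgroup Γ) = 1 := pow_card_eq_one'
    rw [hcard S] at h1
    have h2 := congrArg Subtype.val h1
    simpa using h2
  obtain ⟨x, hxP, hx1, hxβ₁⟩ := hP.exists_ne_one_fixing hΩ (hcard P) hβ₁
  obtain ⟨y, hyP, hy1, hyβ₂⟩ := hP.exists_ne_one_fixing hΩ (hcard P) hβ₂α
  have hH4 : ∀ g ∈ (P : Subgroup Γ), g • β₁ = β₁ → g • β₂ = β₂ → g = 1 := by
    intro g hg h1 h2
    apply FaithfulSMul.eq_of_smul_eq_smul (α := Ω)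
    intro ω
    rw [one_smul]
    rcases hdec ω with rfl | hω | hω
    · exact hP.1 g hg
    · exact smul_eq_of_mem_porbit_of_comm _ (hcomm P) hg h1 hω
    · exact smul_eq_of_mem_porbit_of_comm _ (hcomm P) hg h2 hω
  have hxy : ∀ ω : Ω, x • ω = ω → y • ω = ω → ω = α := by
    intro ω hxω hyω
    rcases hdec ω with rfl | hω | hω
    · rfl
    · exfalso
      have h1 : y • β₁ = β₁ :=
        smul_eq_of_mem_porbit_of_comm _ (hcomm P) hyP hyω (mem_porbit_symm _ hω)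
      exact hy1 (hH4 y hyP h1 hyβ₂)
    · exfalso
      have h1 : x • β₂ = β₂ :=
        smul_eq_of_mem_porbit_of_comm _ (hcomm P) hxP hxω (mem_porbit_symm _ hω)
      exact hx1 (hH4 x hxP hxβ₁ h1)
  obtain ⟨Q, hQ⟩ := hall β₁
  obtain ⟨R, hR⟩ := hall β₂
  have hxQ : x ∈ (Q : Subgroup Γ) := hQ.mem_of_pow hxβ₁ (hpow P x hxP)
  have hyR : y ∈ (R : Subgroup Γ) := hR.mem_of_pow hyβ₂ (hpow P y hyP)
  have hβ₂β₁ : β₂ ≠ β₁ := fun e => hβ₂1 (e ▸ mem_porbit_self _ _)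
  obtain ⟨y', hy'Q, hy'1, hy'β₂⟩ := hQ.exists_ne_one_fixing hΩ (hcard Q) hβ₂β₁
  have hy'R : y' ∈ (R : Subgroup Γ) := hR.mem_of_pow hy'β₂ (hpow Q y' hy'Q)
  have h1 : x • y' • α = y' • α := by
    rw [← mul_smul, hcomm Q x hxQ y' hy'Q, mul_smul, hP.1 x hxP]
  have h2 : y • y' • α = y' • α := by
    rw [← mul_smul, hcomm R y hyR y' hy'R, mul_smul, hP.1 y hyP]
  have h3 : y' • α = α := hxy _ h1 h2
  have hy'P : y' ∈ (P : Subgroup Γ) := hP.mem_of_pow h3 (hpow Q y' hy'Q)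
  exact hy'1 (hH4 y' hy'P (hQ.1 y' hy'Q) hy'β₂)

end

end Cfsg.Agent.Helper71
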