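import Mathlib
import Cfsg.Agent.Helper71.SylFifteenA

set_option autoImplicit false

namespace Cfsg.Agent.Helper71

section

variable {Γ : Type*} [Group Γ] {Ω : Type*} [MulAction Γ Ω] [Finite Ω]

/-- Facts about a Sylow subgroup of order `7`. -/
theorem sylow_seven_facts [Fact (Nat.Prime 7)] {P : Sylow 7 Γ}
    (hP : Nat.card (P : Subgroup Γ) = 7) :
    (∀ a ∈ (P : Subgroup Γ), ∀ b ∈ (P : Subgroup Γ), a * b = b * a) ∧
      (∀ g ∈ (P : Subgroup Γ), g ^ 7 = 1) := by
  constructor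
  · intro a ha b hb
    have hc : IsCyclic ↥(P : Subgroup Γ) := isCyclic_of_prime_card hP
    let _ := IsCyclic.commGroup (α := ↥(P : Subgroup Γ))
    have h2 := mul_comm (⟨a, ha⟩ : ↥(P : Subgroup Γ)) ⟨b, hb⟩
    exact congrArg Subtype.val h2
  · intro g hg
    have h1 : (⟨g, hg⟩ : ↥(P : Subgroup Γ)) ^ Nat.card (P : Subgroup Γ) = 1 := pow_card_eq_one'
    rw [hP] at h1
    have h2 := congrArg Subtype.val h1
    simpa using h2

omit [Finite Ω] in
/-- An element centralizing `P` fixes `α`. -/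
theorem IsPointSylow.smul_eq_of_centralizes {p : ℕ} {P : Sylow p Γ} {α : Ω}
    (h : IsPointSylow P α) {d : Γ} (hd : ∀ a ∈ (P : Subgroup Γ), d * a = a * d) : d • α = α := by
  apply h.smul_eq_of_mem_normalizer
  apply Subgroup.centralizer_le_normalizer
  rw [Subgroup.mem_centralizer_iff]
  intro a ha
  exact (hd a ha).symm

/-- An element centralizing `P` (of order `7`) which maps some point `β ≠ α` into its own
`P`-orbit lies in `P`. -/
theorem IsPointSylow.mem_of_centralizes [Fact (Nat.Prime 7)] [FaithfulSMul Γ Ω] {P : Sylow 7 Γ}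
    {α : Ω} (h : IsPointSylow P α) (hΩ : Nat.card Ω = 15) (hP : Nat.card (P : Subgroup Γ) = 7)
    {c : Γ} (hc : ∀ a ∈ (P : Subgroup Γ), c * a = a * c) {β : Ω} (hβ : β ≠ α)
    (hcβ : c • β ∈ porbit (P : Subgroup Γ) β) : c ∈ (P : Subgroup Γ) := by
  obtain ⟨β₂, hβ₂α, hβ₂1, hdec⟩ := h.exists_decomp hΩ hβ
  obtain ⟨hcomm, hpow⟩ := sylow_seven_facts hP
  obtain ⟨k, hk, hkβ⟩ := hcβ
  -- `c' = k⁻¹ * c` fixes `β`
  obtain ⟨c', hc'def⟩ : ∃ c', c' = k⁻¹ * c := ⟨_, rfl⟩
  have hc' : ∀ a ∈ (P : Subgroup Γ), c' * a = a * c' := by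
    intro a ha
    rw [hc'def, mul_assoc, hc a ha, ← mul_assoc, ← mul_assoc,
      hcomm k⁻¹ (Subgroup.inv_mem _ hk) a ha]
  have hc'β : c' • β = β := by rw [hc'def, mul_smul, ← hkβ, inv_smul_smul]
  have hc'α : c' • α = α := h.smul_eq_of_centralizes hc'
  have hc'O₁ : ∀ ω ∈ porbit (P : Subgroup Γ) β, c' • ω = ω := fun ω hω =>
    smul_eq_of_mem_porbit_of_centralizes _ hc' hc'β hω
  have hc'β₂ : c' • β₂ ∈ porbit (P : Subgroup Γ) β₂ := by
    rcases hdec (c' • β₂) with e | e | e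
    · exfalso
      apply hβ₂α
      exact MulAction.injective c' (e.trans hc'α.symm)
    · exfalso
      apply hβ₂1
      have e2 : c' • β₂ = β₂ := MulAction.injective c' (hc'O₁ _ e)
      rw [e2] at e
      exact e
    · exact e
  obtain ⟨k₂, hk₂, hk₂β⟩ := hc'β₂
  obtain ⟨d, hddef⟩ : ∃ d, d = k₂⁻¹ * c' := ⟨_, rfl⟩
  have hd : ∀ a ∈ (P : Subgroup Γ), d * a = a * d := by
    intro a ha
    rw [hddef, mul_assoc, hc' a ha, ← mul_assoc, ← mul_assoc,
      hcomm k₂⁻¹ (Subgroup.inv_mem _ hk₂) a ha]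
  have hdβ₂ : d • β₂ = β₂ := by rw [hddef, mul_smul, ← hk₂β, inv_smul_smul]
  have hdα : d • α = α := h.smul_eq_of_centralizes hd
  have hdO₂ : ∀ ω ∈ porbit (P : Subgroup Γ) β₂, d • ω = ω := fun ω hω =>
    smul_eq_of_mem_porbit_of_centralizes _ hd hdβ₂ hω
  have hdβ1 : d • β = k₂⁻¹ • β := by rw [hddef, mul_smul, hc'β]
  have hd7 : d ^ 7 = 1 := by
    apply FaithfulSMul.eq_of_smul_eq_smul (α := Ω)
    intro ω
    rw [one_smul]
    have hpowfix : ∀ (n : ℕ) (ξ : Ω), d • ξ = ξ → d ^ n • ξ = ξ := by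
      intro n ξ hξ
      induction n with
      | zero => simp
      | succ n ih => rw [pow_succ, mul_smul, hξ, ih]
    rcases hdec ω with rfl | hω | hω
    · exact hpowfix 7 _ hdα
    · have hd7c : ∀ a ∈ (P : Subgroup Γ), d ^ 7 * a = a * d ^ 7 := by
        intro a ha
        have hcm : Commute d a := hd a ha
        exact (hcm.pow_left 7).eq
      have hdβ : ∀ n : ℕ, d ^ n • β = (k₂⁻¹) ^ n • β := by
        intro n
        induction n with
        | zero => simp
        | succ n ih =>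
          have hcm : Commute (d ^ n) k₂⁻¹ :=
            Commute.pow_left (hd k₂⁻¹ (Subgroup.inv_mem _ hk₂)) n
          rw [pow_succ, mul_smul, hdβ1, ← mul_smul, hcm.eq, mul_smul, ih, ← mul_smul,
            ← pow_succ']
      have h7 : d ^ 7 • β = β := by rw [hdβ 7, inv_pow, hpow k₂ hk₂, inv_one, one_smul]
      exact smul_eq_of_mem_porbit_of_centralizes _ hd7c h7 hω
    · exact hpowfix 7 _ (hdO₂ ω hω)
  have hdP : d ∈ (P : Subgroup Γ) := h.mem_of_pow hdα (k := 1) (by simpa using hd7)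
  have e : c = k * (k₂ * d) := by rw [hddef, hc'def]; group
  rw [e]
  exact Subgroup.mul_mem _ hk (Subgroup.mul_mem _ hk₂ hdP)

end

/-- The sign of an involution with exactly one fixed point on `15` points is `-1`. -/
theorem sign_eq_neg_one_of_involution {Ω : Type*} [Fintype Ω] [DecidableEq Ω]
    (hΩ : Fintype.card Ω = 15) (τ : Equiv.Perm Ω) (hτ2 : τ ^ 2 = 1) (α : Ω)
    (hfix : ∀ ω : Ω, τ ω = ω ↔ ω = α) : Equiv.Perm.sign τ = -1 := by
  have hne : τ ≠ 1 := by
    intro e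
    have hcard : Fintype.card Ω ≤ 1 := by
      rw [Fintype.card_le_one_iff]
      intro a b
      have ha := (hfix a).mp (by rw [e]; rfl)
      have hb := (hfix b).mp (by rw [e]; rfl)
      rw [ha, hb]
    omega
  have hord : orderOf τ = 2 := orderOf_eq_prime hτ2 hne
  have hprime : (orderOf τ).Prime := by rw [hord]; exact Nat.prime_two
  obtain ⟨n, hn⟩ := Equiv.Perm.cycleType_prime_order hprime
  rw [hord] at hn
  have hsupp : τ.support = Finset.univ.erase α := by
    ext ω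
    rw [Equiv.Perm.mem_support, Finset.mem_erase]
    simp [hfix ω]
  have hsum := Equiv.Perm.sum_cycleType τ
  rw [hn, hsupp, Finset.card_erase_of_mem (Finset.mem_univ α), Finset.card_univ, hΩ] at hsum
  simp only [Multiset.sum_replicate, smul_eq_mul] at hsum
  have hn6 : n = 6 := by omega
  rw [Equiv.Perm.sign_of_cycleType, hn, hn6]
  simp only [Multiset.sum_replicate, Multiset.card_replicate, smul_eq_mul]
  norm_num

/-- A homomorphism to `ℤˣ` taking the value `-1` has kernel of index `2`. -/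
theorem index_ker_eq_two_of_neg_one {Γ : Type*} [Group Γ] (f : Γ →* ℤˣ) (t : Γ)
    (ht : f t = -1) : f.ker.index = 2 := by
  rw [Subgroup.index_ker]
  have htop : f.range = ⊤ := by
    rw [eq_top_iff]
    intro u _
    rcases Int.units_eq_one_or u with rfl | rfl
    · exact Subgroup.one_mem _
    · exact ⟨t, ht⟩
  rw [htop, Subgroup.card_top]
  simp

end Cfsg.Agent.Helper71
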