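import Mathlib
import Cfsg.Agent.Helper71.SylFifteenB

set_option autoImplicit false

namespace Cfsg.Agent.Helper71

/-- If the centralizer of `P` is not contained in `P`, the group has a normal subgroup of
index `2` (an involution with exactly one fixed point is an odd permutation). -/
theorem IsPointSylow.exists_index_two_of_centralizer {Γ : Type*} [Group Γ] {Ω : Type*}
    [MulAction Γ Ω] [Fintype Ω] [DecidableEq Ω] [Fact (Nat.Prime 7)] [FaithfulSMul Γ Ω]
    {P : Sylow 7 Γ} {α : Ω} (h : IsPointSylow P α) (hΩ : Nat.card Ω = 15)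
    (hP : Nat.card (P : Subgroup Γ) = 7) {c : Γ}
    (hc : ∀ a ∈ (P : Subgroup Γ), c * a = a * c) (hcP : c ∉ (P : Subgroup Γ)) :
    ∃ L : Subgroup Γ, L.Normal ∧ L.index = 2 := by
  obtain ⟨hcomm, hpow⟩ := sylow_seven_facts hP
  obtain ⟨β₁, hβ₁⟩ := exists_ne_of_card_fifteen hΩ α
  obtain ⟨β₂, hβ₂α, hβ₂1, hdec⟩ := h.exists_decomp hΩ hβ₁
  have hcα : c • α = α := h.smul_eq_of_centralizes hc
  have h1 : c • β₁ ∈ porbit (P : Subgroup Γ) β₂ := by
    rcases hdec (c • β₁) with e | e | e
    · exact absurd (MulAction.injective c (e.trans hcα.symm)) hβ₁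
    · exact absurd (h.mem_of_centralizes hΩ hP hc hβ₁ e) hcP
    · exact e
  have h2 : c • β₂ ∈ porbit (P : Subgroup Γ) β₁ := by
    rcases hdec (c • β₂) with e | e | e
    · exact absurd (MulAction.injective c (e.trans hcα.symm)) hβ₂α
    · exact e
    · exact absurd (h.mem_of_centralizes hΩ hP hc hβ₂α e) hcP
  have hc2 : ∀ a ∈ (P : Subgroup Γ), c ^ 2 * a = a * c ^ 2 := fun a ha =>
    ((show Commute c a from hc a ha).pow_left 2).eq
  have hc2P : c ^ 2 ∈ (P : Subgroup Γ) := by
    apply h.mem_of_centralizes hΩ hP hc2 hβ₁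
    obtain ⟨k, hk, hkβ⟩ := h1
    rw [pow_two, mul_smul, ← hkβ, ← mul_smul, hc k hk, mul_smul]
    exact smul_mem_porbit _ hk h2
  have ht : ∀ a ∈ (P : Subgroup Γ), c ^ 7 * a = a * c ^ 7 := fun a ha =>
    ((show Commute c a from hc a ha).pow_left 7).eq
  have htP : c ^ 7 ∉ (P : Subgroup Γ) := by
    intro hmem
    apply hcP
    have e : c = c ^ 7 * ((c ^ 2) ^ 3)⁻¹ := by group
    rw [e]
    exact Subgroup.mul_mem _ hmem (Subgroup.inv_mem _ (Subgroup.pow_mem _ hc2P 3))
  have ht2 : (c ^ 7) ^ 2 = 1 := by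
    rw [← pow_mul, show 7 * 2 = 2 * 7 from rfl, pow_mul, hpow _ hc2P]
  have htfix : ∀ ω : Ω, c ^ 7 • ω = ω ↔ ω = α := by
    intro ω
    constructor
    · intro hω
      by_contra hne
      apply htP
      apply h.mem_of_centralizes hΩ hP ht hne
      rw [hω]; exact mem_porbit_self _ _
    · rintro rfl
      exact h.smul_eq_of_centralizes ht
  have hft : (Equiv.Perm.sign.comp (MulAction.toPermHom Γ Ω)) (c ^ 7) = -1 := by
    show Equiv.Perm.sign (MulAction.toPermHom Γ Ω (c ^ 7)) = -1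
    refine sign_eq_neg_one_of_involution (by rw [← Nat.card_eq_fintype_card]; exact hΩ) _ ?_ α ?_
    · rw [← map_pow, ht2, map_one]
    · intro ω
      exact htfix ω
  exact ⟨(Equiv.Perm.sign.comp (MulAction.toPermHom Γ Ω)).ker, MonoidHom.normal_ker _,
    index_ker_eq_two_of_neg_one _ _ hft⟩

/-- If `P` of order `7` is self-centralizing, then `|N(P)| = 7e` with `e ∣ 6`. -/
theorem card_normalizer_of_centralizer_le {Γ : Type*} [Group Γ] [Finite Γ] [Fact (Nat.Prime 7)]
    {P : Sylow 7 Γ} (hP : Nat.card (P : Subgroup Γ) = 7)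
    (hC : ∀ c : Γ, (∀ a ∈ (P : Subgroup Γ), c * a = a * c) → c ∈ (P : Subgroup Γ)) :
    ∃ e : ℕ, e ∣ 6 ∧ Nat.card (Subgroup.normalizer ((P : Subgroup Γ) : Set Γ)) = 7 * e := by
  have hcyc : IsCyclic ↥(P : Subgroup Γ) := isCyclic_of_prime_card hP
  have key := Subgroup.card_dvd_of_injective _
    (QuotientGroup.kerLift_injective (P : Subgroup Γ).normalizerMonoidHom)
  rw [Subgroup.normalizerMonoidHom_ker, ← Subgroup.index, ← Subgroup.relIndex,
    IsCyclic.card_mulAut, hP] at key
  have hcent : Subgroup.centralizer ((P : Subgroup Γ) : Set Γ) = P := by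
    apply le_antisymm
    · intro c hc
      apply hC
      intro a ha
      exact ((Subgroup.mem_centralizer_iff.mp hc) a ha).symm
    · intro a ha
      rw [Subgroup.mem_centralizer_iff]
      intro b hb
      exact (sylow_seven_facts hP).1 b hb a ha
  rw [hcent] at key
  refine ⟨(P : Subgroup Γ).relIndex (Subgroup.normalizer ((P : Subgroup Γ) : Set Γ)), ?_, ?_⟩
  · have htot : Nat.totient 7 = 6 := by decide
    rwa [htot] at key
  · have h1 := Subgroup.relIndex_mul_relIndex ⊥ (P : Subgroup Γ)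
      (Subgroup.normalizer ((P : Subgroup Γ) : Set Γ)) bot_le Subgroup.le_normalizer
    simp only [Subgroup.relIndex_bot_left] at h1
    rw [← h1, hP]

/-- A finite group of order `2 * odd` has a normal subgroup of index `2`. -/
theorem exists_index_two_of_card {Γ : Type*} [Group Γ] [Finite Γ] (m : ℕ) (hm : Odd m)
    (hcard : Nat.card Γ = 2 * m) : ∃ L : Subgroup Γ, L.Normal ∧ L.index = 2 := by
  have : Fact (Nat.Prime 2) := ⟨Nat.prime_two⟩
  have hmf : (Nat.card Γ).minFac = 2 := by
    rw [Nat.minFac_eq_two_iff, hcard]; exact dvd_mul_right 2 m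
  obtain ⟨T⟩ : Nonempty (Sylow 2 Γ) := inferInstance
  have hT : Nat.card (T : Subgroup Γ) = 2 := by
    obtain ⟨n, hn⟩ := IsPGroup.iff_card.mp T.isPGroup'
    have h1 := Subgroup.card_mul_index (T : Subgroup Γ)
    have h2 : ¬ 2 ∣ (T : Subgroup Γ).index := T.not_dvd_index
    rw [hn, hcard] at h1
    rcases n with _ | _ | n
    · exfalso
      apply h2
      simp only [pow_zero, one_mul] at h1
      rw [h1]; exact dvd_mul_right 2 m
    · simpa using hn
    · exfalso
      have h3 : 2 * (2 ^ (n + 1) * (T : Subgroup Γ).index) = 2 * m := by rw [← h1]; ring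
      have h4 : 2 ^ (n + 1) * (T : Subgroup Γ).index = m := Nat.eq_of_mul_eq_mul_left (by norm_num) h3
      have h5 : 2 ∣ m := by
        rw [← h4]; exact Dvd.dvd.mul_right (dvd_pow_self 2 (by omega)) _
      exact (Nat.not_even_iff_odd.mpr hm) (even_iff_two_dvd.mpr h5)
  have hcyc : IsCyclic ↥(T : Subgroup Γ) := isCyclic_of_prime_card hT
  have hNC := IsCyclic.normalizer_le_centralizer hmf hcyc
  have hcomp := MonoidHom.ker_transferSylow_isComplement' T hNC
  refine ⟨(MonoidHom.transferSylow T hNC).ker, MonoidHom.normal_ker _, ?_⟩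
  rw [hcomp.symm.index_eq_card, hT]

end Cfsg.Agent.Helper71
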