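import Mathlib
import Cfsg.Agent.Helper71.SylFifteenC

set_option autoImplicit false

namespace Cfsg.Agent.Helper71

/-- A group of order `105` or `315` has a normal Sylow `7`-subgroup (when it has order `7`). -/
theorem false_of_odd {Γ : Type*} [Group Γ] [Finite Γ] [Fact (Nat.Prime 7)] (P : Sylow 7 Γ)
    (hP : Nat.card (P : Subgroup Γ) = 7) (e : ℕ) (he : e = 1 ∨ e = 3)
    (hcard : Nat.card Γ = 105 * e)
    (hnot : ∃ g : Γ, g ∉ Subgroup.normalizer ((P : Subgroup Γ) : Set Γ)) : False := by
  have : Fact (Nat.Prime 5) := ⟨by norm_num⟩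
  obtain ⟨S⟩ : Nonempty (Sylow 5 Γ) := inferInstance
  have hS : Nat.card (S : Subgroup Γ) = 5 := by
    obtain ⟨n, hn⟩ := IsPGroup.iff_card.mp S.isPGroup'
    have h1 := Subgroup.card_mul_index (S : Subgroup Γ)
    have h2 : ¬ 5 ∣ (S : Subgroup Γ).index := S.not_dvd_index
    rw [hn, hcard] at h1
    rcases n with _ | _ | n
    · exfalso
      apply h2
      simp only [pow_zero, one_mul] at h1
      rw [h1]
      rcases he with rfl | rfl <;> norm_num
    · simpa using hn
    · exfalso
      have h3 : 25 ∣ 105 * e := by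
        rw [← h1]
        exact Dvd.dvd.mul_right (pow_dvd_pow 5 (show 2 ≤ n + 1 + 1 by omega)) _
      rcases he with rfl | rfl <;> omega
  have hcyc : IsCyclic ↥(S : Subgroup Γ) := isCyclic_of_prime_card hS
  have key := Subgroup.card_dvd_of_injective _
    (QuotientGroup.kerLift_injective (S : Subgroup Γ).normalizerMonoidHom)
  rw [Subgroup.normalizerMonoidHom_ker, ← Subgroup.index, ← Subgroup.relIndex,
    IsCyclic.card_mulAut, hS] at key
  have htot : Nat.totient 5 = 4 := by decide
  rw [htot] at key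
  have h3 : (Subgroup.centralizer ((S : Subgroup Γ) : Set Γ)).relIndex
      (Subgroup.normalizer ((S : Subgroup Γ) : Set Γ)) ∣ 105 * e := by
    rw [← hcard]
    exact (Subgroup.relIndex_dvd_card _ _).trans (Subgroup.card_subgroup_dvd_card _)
  have h4 : (Subgroup.centralizer ((S : Subgroup Γ) : Set Γ)).relIndex
      (Subgroup.normalizer ((S : Subgroup Γ) : Set Γ)) = 1 := by
    have h5 := Nat.dvd_gcd key h3
    rcases he with rfl | rfl
    · have : Nat.gcd 4 (105 * 1) = 1 := by decide
      rw [this] at h5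
      exact Nat.dvd_one.mp h5
    · have : Nat.gcd 4 (105 * 3) = 1 := by decide
      rw [this] at h5
      exact Nat.dvd_one.mp h5
  have hNC : Subgroup.normalizer ((S : Subgroup Γ) : Set Γ) ≤
      Subgroup.centralizer ((S : Subgroup Γ) : Set Γ) := Subgroup.relIndex_eq_one.mp h4
  have hcomp := MonoidHom.ker_transferSylow_isComplement' S hNC
  obtain ⟨K, hKdef⟩ : ∃ K : Subgroup Γ, K = (MonoidHom.transferSylow S hNC).ker := ⟨_, rfl⟩
  rw [← hKdef] at hcomp
  have hKn : K.Normal := by rw [hKdef]; exact MonoidHom.normal_ker _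
  have hKidx : K.index = 5 := by rw [hcomp.symm.index_eq_card, hS]
  have hKcard : Nat.card K = 21 * e := by
    have h5 := hcomp.card_mul_card
    rw [hS, hcard] at h5
    omega
  have hPK : (P : Subgroup Γ) ≤ K := by
    intro x hx
    have h5 : x ^ 5 ∈ K := by
      have h6 := Subgroup.pow_index_mem K x
      rwa [hKidx] at h6
    have h7 : x ^ 7 = 1 := (sylow_seven_facts hP).2 x hx
    have e1 : x = (x ^ 5) ^ 3 * ((x ^ 7) ^ 2)⁻¹ := by group
    rw [e1, h7]
    simpa using Subgroup.pow_mem _ h5 3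
  have hsub : Subsingleton (Sylow 7 K) := by
    have h1 : Nat.card (Sylow 7 K) ∣ ((P.subtype hPK : Sylow 7 K) : Subgroup K).index :=
      Sylow.card_dvd_index _
    have h2 := card_sylow_modEq_one 7 K
    have h3 : Nat.card ((P.subtype hPK : Sylow 7 K) : Subgroup K) = 7 := by
      rw [Sylow.coe_subtype]
      exact (Nat.card_congr (Subgroup.subgroupOfEquivOfLe hPK).toEquiv).trans hP
    have h4 := Subgroup.card_mul_index ((P.subtype hPK : Sylow 7 K) : Subgroup K)
    rw [h3, hKcard] at h4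
    have h5 : ((P.subtype hPK : Sylow 7 K) : Subgroup K).index = 3 * e := by omega
    rw [h5] at h1
    have h6 : Nat.card (Sylow 7 K) = 1 := by
      have hle : Nat.card (Sylow 7 K) ≤ 3 * e :=
        Nat.le_of_dvd (by rcases he with rfl | rfl <;> norm_num) h1
      have hmod : Nat.card (Sylow 7 K) % 7 = 1 := h2
      rcases he with rfl | rfl
      · omega
      · have h8 : Nat.card (Sylow 7 K) ≠ 8 := by
          intro e8
          rw [e8] at h1
          omega
        omega
    exact (Nat.card_eq_one_iff_unique.mp h6).1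
  obtain ⟨g, hg⟩ := hnot
  apply hg
  refine Sylow.smul_eq_iff_mem_normalizer.mp ?_
  have hgK : ((g • P : Sylow 7 Γ) : Subgroup Γ) ≤ K := by
    intro x hx
    rw [Sylow.coe_subgroup_smul, Subgroup.mem_pointwise_smul_iff_inv_smul_mem] at hx
    have h1 := hPK hx
    have h2 := hKn.conj_mem _ h1 g
    simpa [MulAut.smul_def, mul_assoc] using h2
  exact Sylow.subtype_injective (Subsingleton.elim ((g • P).subtype hgK) (P.subtype hPK))

/-- The self-centralizing case. -/
theorem IsPointSylow.exists_index_two_of_centralizer_le {Γ : Type*} [Group Γ] [Finite Γ]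
    {Ω : Type*} [MulAction Γ Ω] [Finite Ω] [Fact (Nat.Prime 7)] [MulAction.IsPretransitive Γ Ω]
    {P : Sylow 7 Γ} {α : Ω} (h : IsPointSylow P α) (hΩ : Nat.card Ω = 15)
    (hP : Nat.card (P : Subgroup Γ) = 7)
    (hC : ∀ c : Γ, (∀ a ∈ (P : Subgroup Γ), c * a = a * c) → c ∈ (P : Subgroup Γ)) :
    ∃ L : Subgroup Γ, L.Normal ∧ L.index = 2 := by
  obtain ⟨e, he6, heN⟩ := card_normalizer_of_centralizer_le hP hC
  have hstab : MulAction.stabilizer Γ α = Subgroup.normalizer ((P : Subgroup Γ) : Set Γ) :=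
    le_antisymm h.2.2 h.normalizer_le
  have hidx : (Subgroup.normalizer ((P : Subgroup Γ) : Set Γ)).index = 15 := by
    rw [← hstab, MulAction.index_stabilizer, MulAction.orbit_eq_univ, Set.ncard_univ, hΩ]
  have hcard : Nat.card Γ = 105 * e := by
    have h1 := Subgroup.card_mul_index (Subgroup.normalizer ((P : Subgroup Γ) : Set Γ))
    rw [hidx, heN] at h1
    omega
  have he : e = 1 ∨ e = 2 ∨ e = 3 ∨ e = 6 := by
    have hle : e ≤ 6 := Nat.le_of_dvd (by norm_num) he6
    interval_cases e <;> simp_all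
  obtain ⟨β₁, hβ₁⟩ := exists_ne_of_card_fifteen hΩ α
  have hnot : ∃ g : Γ, g ∉ Subgroup.normalizer ((P : Subgroup Γ) : Set Γ) := by
    obtain ⟨g, hg⟩ := MulAction.exists_smul_eq Γ α β₁
    refine ⟨g, fun hmem => hβ₁ ?_⟩
    rw [← hg]
    exact h.smul_eq_of_mem_normalizer hmem
  rcases he with rfl | rfl | rfl | rfl
  · exact (false_of_odd P hP 1 (Or.inl rfl) hcard hnot).elim
  · exact exists_index_two_of_card 105 (by decide) (by rw [hcard])
  · exact (false_of_odd P hP 3 (Or.inr rfl) hcard hnot).elim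
  · exact exists_index_two_of_card 315 (by decide) (by rw [hcard])

/-- Main permutation-group lemma: a transitive group on `15` points in which every point `β`
has a Sylow `7`-subgroup fixing exactly `β` and normal in the stabilizer of `β` has a normal
subgroup of index `2`. -/
theorem exists_index_two_of_pointSylow {Γ : Type*} [Group Γ] [Finite Γ] {Ω : Type*}
    [MulAction Γ Ω] [Fintype Ω] [DecidableEq Ω] [Fact (Nat.Prime 7)] [FaithfulSMul Γ Ω]
    [MulAction.IsPretransitive Γ Ω] (hΩ : Nat.card Ω = 15)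
    (hall : ∀ β : Ω, ∃ P : Sylow 7 Γ, IsPointSylow P β) :
    ∃ L : Subgroup Γ, L.Normal ∧ L.index = 2 := by
  have hne : Nonempty Ω := by
    by_contra hcon
    rw [not_nonempty_iff] at hcon
    rw [Nat.card_of_isEmpty] at hΩ
    omega
  obtain ⟨α⟩ := hne
  obtain ⟨P, hP⟩ := hall α
  obtain ⟨β₁, hβ₁⟩ := exists_ne_of_card_fifteen hΩ α
  obtain ⟨k, hk⟩ : ∃ k, k = (Nat.card Γ).factorization 7 := ⟨_, rfl⟩
  have hcardall : ∀ Q : Sylow 7 Γ, Nat.card (Q : Subgroup Γ) = 7 ^ k := fun Q => by
    rw [hk]; exact Sylow.card_eq_multiplicity Q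
  have hk0 : k ≠ 0 := by
    intro e
    have h1 : Nat.card (P : Subgroup Γ) = 1 := by rw [hcardall P, e, pow_zero]
    have h2 : (P : Subgroup Γ) = ⊥ := Subgroup.card_eq_one.mp h1
    apply hβ₁
    apply hP.2.1
    intro g hg
    rw [h2, Subgroup.mem_bot] at hg
    rw [hg, one_smul]
  have hk2 : k ≤ 2 := by
    by_contra hcon
    push Not at hcon
    have h1 : 7 ^ 3 ∣ Nat.card Γ := by
      calc 7 ^ 3 ∣ 7 ^ k := pow_dvd_pow 7 hcon
        _ = Nat.card (P : Subgroup Γ) := (hcardall P).symm
        _ ∣ Nat.card Γ := Subgroup.card_subgroup_dvd_card _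
    have h2 : Nat.card Γ ∣ Nat.card (Equiv.Perm Ω) :=
      Subgroup.card_dvd_of_injective (MulAction.toPermHom Γ Ω) MulAction.toPerm_injective
    rw [Nat.card_perm, hΩ] at h2
    have h3 : 7 ^ 3 ∣ Nat.factorial 15 := h1.trans h2
    revert h3
    decide
  have hk12 : k = 1 ∨ k = 2 := by omega
  rcases hk12 with hk1 | hk2'
  · have hP7 : Nat.card (P : Subgroup Γ) = 7 := by rw [hcardall P, hk1, pow_one]
    by_cases hC : ∀ c : Γ, (∀ a ∈ (P : Subgroup Γ), c * a = a * c) → c ∈ (P : Subgroup Γ)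
    · exact hP.exists_index_two_of_centralizer_le hΩ hP7 hC
    · push Not at hC
      obtain ⟨c, hc, hcP⟩ := hC
      exact hP.exists_index_two_of_centralizer hΩ hP7 hc hcP
  · exfalso
    exact false_of_card_49 hΩ hall (fun Q => by rw [hcardall Q, hk2']; norm_num)

end Cfsg.Agent.Helper71
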