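import Mathlib
import Cfsg.Agent.Helper71.SylFifteenD

set_option autoImplicit false

namespace Cfsg.Agent.Helper71

/-- A normal subgroup of index prime to `p` contains every Sylow `p`-subgroup. -/
theorem sylow_le_of_normal_of_coprime {G : Type*} [Group G] [Finite G] {p : ℕ} [Fact p.Prime]
    (K : Subgroup G) [K.Normal] (hK : (K.index).Coprime p) (P : Sylow p G) :
    (P : Subgroup G) ≤ K := by
  intro x hx
  obtain ⟨n, hn⟩ := P.isPGroup' ⟨x, hx⟩
  have h1 : x ^ p ^ n = 1 := by
    have := congrArg Subtype.val hn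
    simpa using this
  have h2 : (QuotientGroup.mk x : G ⧸ K) ^ p ^ n = 1 := by
    rw [← QuotientGroup.mk_pow, h1]; rfl
  have h3 : (QuotientGroup.mk x : G ⧸ K) ^ K.index = 1 := by
    rw [Subgroup.index_eq_card]; exact pow_card_eq_one'
  have h4 := pow_gcd_eq_one.mpr ⟨h3, h2⟩
  have h5 : Nat.gcd K.index (p ^ n) = 1 := Nat.Coprime.pow_right n hK
  rw [h5, pow_one] at h4
  exact (QuotientGroup.eq_one_iff x).mp h4

/-- A normal subgroup of index prime to `p` has the same number of Sylow `p`-subgroups. -/
theorem card_sylow_of_normal_of_coprime {G : Type*} [Group G] [Finite G] {p : ℕ} [Fact p.Prime]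
    (K : Subgroup G) [K.Normal] (hK : (K.index).Coprime p) :
    Nat.card (Sylow p K) = Nat.card (Sylow p G) := by
  symm
  apply Nat.card_eq_of_bijective
    (fun P : Sylow p G => P.subtype (sylow_le_of_normal_of_coprime K hK P))
  constructor
  · intro P Q hPQ
    exact Sylow.subtype_injective hPQ
  · intro Q'
    obtain ⟨P, hP⟩ := (Q'.isPGroup'.map K.subtype).exists_le_sylow
    refine ⟨P, ?_⟩
    apply Sylow.ext
    have hle : (Q' : Subgroup K) ≤ (P.subtype (sylow_le_of_normal_of_coprime K hK P) :
        Sylow p K) := by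
      intro y hy
      rw [Sylow.coe_subtype]
      exact hP (Subgroup.mem_map_of_mem _ hy)
    exact Q'.is_maximal' (P.subtype (sylow_le_of_normal_of_coprime K hK P)).isPGroup' hle

/-- A finite group with exactly `15` Sylow `7`-subgroups has a normal subgroup of index `2`. -/
theorem exists_normal_index_two_of_card_sylow {G : Type*} [Group G] [Finite G]
    [Fact (Nat.Prime 7)] (h15 : Nat.card (Sylow 7 G) = 15) :
    ∃ K : Subgroup G, K.Normal ∧ K.index = 2 := by
  classical
  have : Fintype (Sylow 7 G) := Fintype.ofFinite _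
  have key : ∀ (Γ : Subgroup (Equiv.Perm (Sylow 7 G))) (φ' : G →* Γ),
      Function.Surjective φ' → (∀ (g : G) (ω : Sylow 7 G), φ' g • ω = g • ω) →
      ∃ K : Subgroup G, K.Normal ∧ K.index = 2 := by
    intro Γ φ' hφ' hsmul
    have : MulAction.IsPretransitive Γ (Sylow 7 G) := ⟨fun a b => by
      obtain ⟨g, hg⟩ := MulAction.exists_smul_eq G a b
      exact ⟨φ' g, by rw [hsmul, hg]⟩⟩
    have hall : ∀ β : Sylow 7 G, ∃ P : Sylow 7 Γ, IsPointSylow P β := by
      intro Q
      refine ⟨Sylow.mapSurjective hφ' Q, ?_, ?_, ?_⟩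
      · intro γ hγ
        rw [Sylow.coe_mapSurjective] at hγ
        obtain ⟨g, hg, rfl⟩ := hγ
        rw [hsmul]
        exact Sylow.smul_eq_iff_mem_normalizer.mpr (Subgroup.le_normalizer hg)
      · intro R hR
        have h1 : (Q : Subgroup G) ≤ Subgroup.normalizer ((R : Subgroup G) : Set G) := by
          intro g hg
          refine Sylow.smul_eq_iff_mem_normalizer.mp ?_
          rw [← hsmul]
          apply hR
          rw [Sylow.coe_mapSurjective]
          exact Subgroup.mem_map_of_mem _ hg
        have h2 := Q.isPGroup'.inf_normalizer_sylow R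
        have h3 : (Q : Subgroup G) ≤ R := by
          intro g hg
          have h4 : g ∈ (Q : Subgroup G) ⊓ (R : Subgroup G) := by
            rw [← h2]; exact ⟨hg, h1 hg⟩
          exact h4.2
        exact Sylow.ext (Q.is_maximal' R.isPGroup' h3)
      · intro γ hγ
        obtain ⟨g, rfl⟩ := hφ' γ
        rw [MulAction.mem_stabilizer_iff, hsmul] at hγ
        have hγ' := Sylow.smul_eq_iff_mem_normalizer.mp hγ
        rw [Sylow.coe_mapSurjective]
        exact Subgroup.le_normalizer_map _ (Subgroup.mem_map_of_mem _ hγ')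
    obtain ⟨L, hLn, hLidx⟩ := exists_index_two_of_pointSylow h15 hall
    refine ⟨L.comap φ', hLn.comap φ', ?_⟩
    rw [Subgroup.index_comap_of_surjective L hφ', hLidx]
  exact key _ (MulAction.toPermHom G (Sylow 7 G)).rangeRestrict
    (MonoidHom.rangeRestrict_surjective _) (fun g ω => rfl)

end Cfsg.Agent.Helper71
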